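import Cfsg.Agent.EqLemmas

/-
Numerical data for the rigidity of the normaliser of the elementary subgroup of order 1024 of Co2
(helper69; generated from tools/co2/rigid.json by tools/co2/rigid_data.py).

* `gens`, `acts`, `gAct` : nine generators of the local subgroup, their action and that of the extra involution
* `rels` : relations between the nine generators
* `trans`, `schreier` : the orbit of the central involution and the returning words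
* `innerD`, `nD`, `dOne`, `coordD`, `backD` : the derivations and the certificate that there are no others
-/

set_option autoImplicit false

namespace Cfsg.Agent.CoTwoCert.Rigid

/-- The nine generators. -/
def gens : List (ℕ × List (Fin 7)) := [(1, []), (4, []), (16, []), (64, []), (0, [1]), (0, [3]), (0, [4]), (0, [5]), (0, [6])]

/-- Their actions on the ten basis elements. -/
def acts : List (List ℕ) :=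
  [[1, 2, 4, 8, 17, 34, 66, 133, 261, 526], [1, 2, 4, 9, 16, 36, 71, 131, 259, 534], [1, 2, 5, 8, 16, 40, 72, 145, 274, 538], [1, 3, 4, 8, 16, 48, 89, 137, 268, 540], [1, 6, 4, 24, 16, 32, 128, 64, 448, 704], [1, 2, 6, 8, 24, 32, 64, 192, 320, 576], [1, 6, 4, 27, 20, 32, 256, 448, 64, 512], [1, 10, 20, 8, 16, 32, 64, 128, 512, 256], [1, 2, 4, 10, 20, 32, 64, 128, 256, 928]]

/-- The action of the extra involution. -/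
def gAct : List ℕ := [801, 66, 196, 8, 16, 32, 64, 128, 288, 544]

/-- The relations: two words and the difference. -/
def rels : List (List ℕ × List ℕ × ℕ) :=
  [([0, 0], [], 0), ([1, 0], [0, 1], 0), ([1, 1], [], 0), ([2, 0], [0, 2], 0), ([2, 1], [1, 2], 0), ([2, 2], [], 0), ([3, 0], [0, 3], 0), ([3, 1], [1, 3], 0), ([3, 2], [2, 3], 0), ([3, 3], [], 0), ([4, 1], [1, 4], 0), ([4, 3], [3, 4], 0), ([5, 0], [0, 5], 2), ([5, 2], [2, 5], 8), ([6, 1], [1, 6], 0), ([6, 4], [4, 6], 0), ([6, 6], [], 0), ([7, 2], [2, 7], 0), ([7, 3], [3, 7], 0), ([7, 4], [4, 7], 0), ([7, 5], [5, 7], 0), ([8, 0], [0, 8], 0), ([8, 1], [1, 8], 0), ([8, 4], [4, 8], 0), ([8, 5], [5, 8], 0), ([0, 1, 4], [4, 0], 0), ([0, 1, 5], [5, 1], 7), ([0, 1, 6], [6, 0], 0), ([0, 2, 7], [7, 0], 0), ([0, 2, 8], [8, 2], 0), ([1, 3, 6],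 [6, 3], 0), ([1, 3, 7], [7, 1], 0), ([2, 3, 6], [0, 6, 2], 1), ([5, 4, 5], [4, 5, 4], 0), ([6, 5, 6], [5, 6, 5], 0), ([7, 6, 7], [6, 7, 6], 0), ([8, 7, 8], [7, 8, 7], 0)]

/-- The orbit of the central involution: code and word (letter 9 is the extra involution). -/
def trans : List (ℕ × List ℕ) :=
  [(1, []), (801, [9]), (808, [0, 9]), (816, [1, 9]), (609, [6, 9]), (641, [8, 9]), (824, [1, 0, 9]), (635, [6, 0, 9]), (650, [8, 0, 9]), (628, [6, 1, 9]), (660, [8, 1, 9]), (623, [0, 6, 9]), (545, [5, 6, 9]), (353, [7, 6, 9]), (961, [8, 6, 9]), (385, [7, 8, 9]), (670, [8, 1, 0, 9]), (563, [5, 6, 0, 9]), (371, [7, 6, 0, 9]), (989, [8, 6, 0, 9]), (315, [9, 6, 0, 9]), (386, [7, 8, 0, 9]), (746, [9, 8, 0, 9]), (574, [5, 6, 1, 9]), (356, [7, 6, 1, 9]), (976, [8, 6, 1, 9]), (388, [7, 8, 1, 9]), (557,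 [5, 0, 6, 9]), (375, [7, 0, 6, 9]), (973, [8, 0, 6, 9]), (495, [9, 0, 6, 9]), (737, [4, 5, 6, 9]), (289, [7, 5, 6, 9]), (897, [8, 5, 6, 9]), (225, [9, 8, 6, 9]), (390, [7, 8, 1, 0, 9]), (759, [4, 5, 6, 0, 9]), (919, [8, 5, 6, 0, 9]), (61, [9, 8, 6, 0, 9]), (317, [0, 9, 6, 0, 9]), (294, [3, 9, 6, 0, 9]), (104, [6, 9, 6, 0, 9]), (482, [9, 7, 8, 0, 9]), (765, [1, 9, 8, 0, 9]), (840, [8, 9, 8, 0, 9]), (920, [8, 5, 6, 1, 9]), (911, [8, 5, 0, 6, 9]), (493, [9, 5, 0, 6, 9]), (45, [9, 8, 0, 6, 9]), (184, [6, 9, 0, 6, 9]), (481, [7, 4, 5, 6, 9]), (833, [8, 4, 5, 6, 9]), (97, [6, 7, 5, 6, 9]), (161, [9, 8, 5, 6, 9]), (228, [0, 9, 8, 6, 9]), (240, [2, 9, 8, 6, 9]), (851, [8, 4, 5, 6, 0, 9]), (55, [9, 8, 5, 6, 0, 9]), (62, [0, 9, 8, 6, 0, 9]), (56, [1, 9, 8, 6, 0, 9]), (52, [2, 9, 8, 6, 0, 9]), (42, [6,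 9, 8, 6, 0, 9]), (59, [8, 9, 8, 6, 0, 9]), (106, [6, 0, 9, 6, 0, 9]), (98, [6, 3, 9, 6, 0, 9]), (166, [6, 9, 7, 8, 0, 9]), (859, [8, 1, 9, 8, 0, 9]), (47, [9, 8, 5, 0, 6, 9]), (190, [6, 9, 5, 0, 6, 9]), (40, [1, 9, 8, 0, 6, 9]), (36, [2, 9, 8, 0, 6, 9]), (244, [2, 0, 9, 8, 6, 9]), (51, [9, 8, 4, 5, 6, 0, 9]), (38, [3, 9, 8, 5, 6, 0, 9]), (48, [2, 1, 9, 8, 6, 0, 9]), (34, [2, 6, 9, 8, 6, 0, 9]), (32, [2, 1, 9, 8, 0, 6, 9])]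

/-- For each orbit point and letter: the new point and the returning word. -/
def schreier : List (List (ℕ × List ℕ)) :=
  [[(0, [0]), (0, [1]), (0, [2]), (0, [3]), (0, [4]), (0, [5]), (0, [6]), (0, [7]), (0, [8]), (1, [])],
   [(2, []), (3, []), (1, [4, 5, 6, 7, 8, 7, 6, 4, 5, 4, 2]), (1, [6, 7, 8, 7, 6, 4, 3]), (1, [4]), (1, [5]), (4, []), (1, [7]), (5, []), (0, [])],
   [(1, []), (6, []), (2, [4, 5, 6, 7, 8, 7, 6, 4, 5, 4, 2]), (2, [6, 7, 8, 7, 6, 4, 3]), (6, [4]), (2, [5]), (7, []), (2, [4, 5, 6, 7, 8, 6, 7, 6, 4, 5, 4, 2]), (8, []), (2, [4, 5, 6, 7, 8, 6, 7, 6, 5, 4, 0])],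
   [(6, []), (1, []), (3, [4, 5, 6, 7, 8, 7, 6, 4, 5, 4, 2]), (3, [6, 7, 8, 7, 6, 4, 3]), (3, [4]), (6, [5]), (9, []), (3, [6, 7, 8, 6, 7, 6, 4, 3]), (10, []), (3, [6, 7, 8, 6, 7, 6, 1])],
   [(11, []), (9, []), (7, [5, 6, 7, 8, 7, 6, 4, 3, 5]), (9, [6, 7, 8, 7, 6, 4, 3]), (4, [4]), (12, []), (1, []), (13, []), (14, []), (13, [6, 7, 6])],
   [(8, []), (10, []), (8, [4, 5, 6, 7, 8, 7, 6, 4, 5, 4, 2]), (10, [6, 7, 8, 7, 6, 4, 3]), (5, [4]), (5, [5]), (14, []), (15, []), (1, []), (15, [7, 8, 7])],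
   [(3, []), (2, []), (6, [4, 5, 6, 7, 8, 7, 6, 4, 5, 4, 2]), (6, [6, 7, 8, 7, 6, 4, 3]), (2, [4]), (3, [5]), (11, []), (6, [5, 6, 7, 8, 6, 7, 6, 4, 3, 5]), (16, []), (6, [5, 6, 7, 8, 6, 7, 6, 1, 5])],
   [(9, []), (11, []), (4, [5, 6, 7, 8, 7, 6, 4, 3, 5]), (11, [6, 7, 8, 7, 6, 4, 3]), (11, [4]), (17, []), (2, []), (18, []), (19, []), (20, [])],
   [(5, []), (16, []), (5, [4, 5, 6, 7, 8, 7, 6, 4, 5, 4, 2]), (16, [6, 7, 8, 7, 6, 4, 3]), (16, [4]), (8, [5]), (19, []), (21, []), (2, []), (22, [])],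
   [(7, []), (4, []), (11, [5, 6, 7, 8, 7, 6, 4, 3, 5]), (4, [6, 7, 8, 7, 6, 4, 3]), (9, [4]), (23, []), (3, []), (24, []), (25, []), (10, [7, 8, 6, 7, 6, 4, 1])],
   [(16, []), (5, []), (16, [4, 5, 6, 7, 8, 7, 6, 4, 5, 4, 2]), (5, [6, 7, 8, 7, 6, 4, 3]), (10, [4]), (16, [5]), (25, []), (26, []), (3, []), (9, [6, 7, 8, 6, 7, 4, 1])],
   [(4, []), (7, []), (9, [5, 6, 7, 8, 7, 6, 4, 3, 5]), (7, [6, 7, 8, 7, 6, 4, 3]), (7, [4]), (27, []), (6, []), (28, []), (29, []), (30, [])],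
   [(27, []), (17, []), (17, [5, 6, 7, 8, 7, 6, 4, 3, 5]), (27, [4, 5, 6, 7, 8, 7, 6, 4, 5, 4, 2]), (31, []), (4, []), (12, [5]), (32, []), (33, []), (32, [6, 7, 6])],
   [(24, [5, 6, 7, 8, 7, 6, 4, 3, 5]), (13, [6, 7, 8, 7, 6, 4, 3]), (18, [5, 6, 7, 8, 7, 6, 4, 3, 5]), (24, [6, 7, 8, 7, 6, 4, 3]), (13, [4]), (32, []), (13, [7]), (4, []), (13, [6, 7, 8, 7, 6]), (4, [6, 7, 6])],
   [(29, []), (25, []), (25, [5, 6, 7, 8, 7, 6, 4, 3, 5]), (14, [6, 7, 8, 7, 6, 4, 3]), (14, [4]), (33, []), (5, []), (14, [6, 7, 8, 7, 6]), (4, []), (34, [])],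
   [(15, [4, 5, 6, 7, 8, 7, 6, 4, 5, 4, 2]), (15, [6, 7, 8, 7, 6, 4, 3]), (21, [4, 5, 6, 7, 8, 7, 6, 4, 5, 4, 2]), (26, [6, 7, 8, 7, 6, 4, 3]), (15, [4]), (15, [5]), (15, [6, 7, 8, 7, 6]), (5, []), (15, [7]), (5, [7, 8, 7])],
   [(10, []), (8, []), (10, [4, 5, 6, 7, 8, 7, 6, 4, 5, 4, 2]), (8, [6, 7, 8, 7, 6, 4, 3]), (8, [4]), (10, [5]), (29, []), (35, []), (6, []), (23, [6, 7, 8, 6, 7, 4, 1, 5])],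
   [(23, []), (12, []), (12, [5, 6, 7, 8, 7, 6, 4, 3, 5]), (23, [4, 5, 6, 7, 8, 7, 6, 4, 5, 4, 2]), (36, []), (7, []), (17, [5]), (20, [7, 4, 5, 6, 0, 7, 4, 5, 4]), (37, []), (18, [7, 4, 5, 6, 0, 7, 4, 5, 4])],
   [(28, [5, 6, 7, 8, 7, 6, 4, 3, 5]), (18, [6, 7, 8, 7, 6, 4, 3]), (13, [5, 6, 7, 8, 7, 6, 4, 3, 5]), (28, [6, 7, 8, 7, 6, 4, 3]), (28, [4]), (20, [7, 4, 5, 6, 0, 7, 4, 5, 4]), (18, [4, 5, 6, 7, 8, 6, 7, 6, 4, 5, 4, 2]), (7, []), (28, [5, 6, 7, 8, 7, 6, 4, 5, 2, 4]), (17, [7, 4, 5, 6, 0, 7, 4, 5, 4])],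
   [(25, []), (29, []), (29, [5, 6, 7, 8, 7, 6, 4, 3, 5]), (19, [6, 7, 8, 7, 6, 4, 3]), (29, [4]), (37, []), (8, []), (29, [5, 6, 7, 8, 7, 6, 4, 5, 2, 4]), (7, []), (38, [])],
   [(39, []), (39, [5, 6, 7, 8, 5, 6, 7, 5, 6, 5]), (32, [5, 6, 7, 8, 5, 6, 7, 5, 6, 2, 4]), (40, []), (30, [4]), (18, [7, 4, 5, 6, 0, 7, 4, 5, 4]), (41, []), (17, [7, 4, 5, 6, 0, 7, 4, 5, 4]), (39, [0, 6, 7, 6, 0]), (7, [])],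
   [(21, [4, 5, 6, 7, 8, 7, 6, 4, 5, 4, 2]), (21, [6, 7, 8, 7, 6, 4, 3]), (15, [4, 5, 6, 7, 8, 7, 6, 4, 5, 4, 2]), (35, [6, 7, 8, 7, 6, 4, 3]), (35, [4]), (21, [5]), (35, [5, 6, 7, 8, 7, 6, 4, 5, 2, 4]), (8, []), (21, [4, 5, 6, 7, 8, 6, 7, 6, 4, 5, 4, 2]), (42, [])],
   [(31, [6, 7, 8, 6, 7, 4, 5, 4, 0]), (43, []), (31, [7, 6, 5, 4, 2]), (36, [5, 6, 7, 8, 6, 7, 4, 5, 3, 6, 4]), (23, [6, 7, 8, 6, 7, 4, 5, 4, 0]), (22, [5]), (43, [5, 0, 6, 7, 8, 7, 6, 5, 0]), (42, []), (44, []), (8, [])],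
   [(17, []), (27, []), (27, [5, 6, 7, 8, 7, 6, 4, 3, 5]), (17, [4, 5, 6, 7, 8, 7, 6, 4, 5, 4, 2]), (22, [7, 8, 4, 5, 6, 7, 6, 4, 1]), (9, []), (27, [5]), (40, [8, 4, 5, 6, 7, 6, 5, 4, 1]), (45, []), (16, [7, 8, 5, 6, 7, 6, 4, 1])],
   [(13, [5, 6, 7, 8, 7, 6, 4, 3, 5]), (24, [6, 7, 8, 7, 6, 4, 3]), (28, [5, 6, 7, 8, 7, 6, 4, 3, 5]), (13, [6, 7, 8, 7, 6, 4, 3]), (24, [4]), (40, [8, 4, 5, 6, 7, 6, 5, 4, 1]), (24, [6, 7, 8, 6, 7, 6, 4, 3]), (9, []), (24, [4, 3]), (26, [7, 8, 6, 7, 6, 4, 1])],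
   [(19, []), (14, []), (14, [5, 6, 7, 8, 7, 6, 4, 3, 5]), (25, [6, 7, 8, 7, 6, 4, 3]), (25, [4]), (45, []), (10, []), (25, [4, 3]), (9, []), (25, [7, 8, 6, 7, 1])],
   [(26, [4, 5, 6, 7, 8, 7, 6, 4, 5, 4, 2]), (26, [6, 7, 8, 7, 6, 4, 3]), (35, [4, 5, 6, 7, 8, 7, 6, 4, 5, 4, 2]), (15, [6, 7, 8, 7, 6, 4, 3]), (26, [4]), (35, [5]), (26, [4, 3]), (10, []), (26, [6, 7, 8, 6, 7, 6, 4, 3]), (24, [6, 7, 8, 6, 7, 4, 1])],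
   [(12, []), (23, []), (23, [5, 6, 7, 8, 7, 6, 4, 3, 5]), (12, [4, 5, 6, 7, 8, 7, 6, 4, 5, 4, 2]), (43, [7, 8, 4, 5, 6, 7, 6, 4, 1]), (11, []), (23, [5]), (39, [6, 7, 8, 4, 5, 6, 7, 5, 6, 5, 1]), (46, []), (47, [])],
   [(18, [5, 6, 7, 8, 7, 6, 4, 3, 5]), (28, [6, 7, 8, 7, 6, 4, 3]), (24, [5, 6, 7, 8, 7, 6, 4, 3, 5]), (18, [6, 7, 8, 7, 6, 4, 3]), (18, [4]), (39, [6, 7, 8, 4, 5, 6, 7, 5, 6, 5, 1]), (28, [5, 6, 7, 8, 6, 7, 6, 4, 3, 5]), (11, []), (18, [4, 5, 6, 7, 8, 7, 6, 4, 5, 2]), (36, [7, 4, 5, 6, 0, 7, 4, 5])],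
   [(14, []), (19, []), (19, [5, 6, 7, 8, 7, 6, 4, 3, 5]), (29, [6, 7, 8, 7, 6, 4, 3]), (19, [4]), (46, []), (16, []), (19, [4, 5, 6, 7, 8, 7, 6, 4, 5, 2]), (11, []), (48, [])],
   [(30, [4, 5, 6, 7, 8, 5, 6, 7, 5, 6, 5, 4]), (47, [6, 7, 2, 8, 6, 4, 5, 4]), (47, [4, 5, 6, 7, 8, 7, 6, 5, 4]), (42, [6, 7, 8, 6, 7, 6, 4]), (20, [4]), (47, []), (49, []), (36, [7, 4, 5, 6, 0, 7, 4, 5]), (47, [8, 4, 5, 4]), (11, [])],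
   [(22, [7, 8, 4, 5, 6, 7, 6, 4, 1]), (36, []), (22, [4, 5, 6, 7, 1]), (43, [6, 7, 3, 8, 4, 5, 6, 7, 6, 4, 5]), (12, []), (31, [4]), (31, [5]), (50, []), (51, []), (50, [6, 7, 6])],
   [(40, [5, 6, 7, 8, 4, 5, 6, 7, 5, 3, 6]), (40, [7, 4, 5, 6, 0, 7, 4, 5, 4]), (20, [6, 7, 8, 4, 5, 6, 7, 5, 6, 5, 1]), (39, [5, 6, 7, 8, 4, 5, 6, 7, 5, 3, 6]), (50, []), (13, []), (52, []), (12, []), (32, [6, 7, 8, 7, 6]), (12, [6, 7, 6])],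
   [(46, []), (37, []), (45, [5, 6, 7, 8, 7, 6, 4, 3, 5]), (45, [4, 5, 6, 7, 8, 7, 6, 4, 5, 4, 2]), (51, []), (14, []), (33, [5]), (33, [6, 7, 8, 7, 6]), (12, []), (53, [])],
   [(54, []), (34, [8, 6, 1]), (55, []), (34, [6, 7, 8, 6, 7, 6, 3]), (34, [4]), (53, []), (34, [6]), (34, [6, 7, 8, 7, 6]), (34, [8]), (14, [])],
   [(35, [4, 5, 6, 7, 8, 7, 6, 4, 5, 4, 2]), (35, [6, 7, 8, 7, 6, 4, 3]), (26, [4, 5, 6, 7, 8, 7, 6, 4, 5, 4, 2]), (21, [6, 7, 8, 7, 6, 4, 3]), (21, [4]), (26, [5]), (21, [4, 5, 6, 7, 8, 7, 6, 4, 5, 2]), (16, []), (35, [5, 6, 7, 8, 6, 7, 6, 4, 3, 5]), (40, [6, 7, 8, 6, 7, 6, 4])],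
   [(43, [7, 8, 4, 5, 6, 7, 6, 4, 1]), (31, []), (43, [4, 5, 6, 7, 1]), (22, [6, 7, 3, 8, 4, 5, 6, 7, 6, 4, 5]), (17, []), (43, [7, 8, 4, 5, 6, 7, 6, 1]), (36, [5]), (30, [7, 5, 6, 0, 7, 4, 5, 4]), (56, []), (28, [7, 5, 6, 0, 7, 4, 5, 4])],
   [(45, []), (33, []), (46, [5, 6, 7, 8, 7, 6, 4, 3, 5]), (46, [4, 5, 6, 7, 8, 7, 6, 4, 5, 4, 2]), (56, []), (19, []), (37, [5]), (46, [5, 6, 7, 8, 7, 6, 4, 5, 2, 4]), (17, []), (57, [])],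
   [(58, []), (59, []), (60, []), (48, [4, 5, 6, 7, 8, 6, 7, 6, 4, 3, 5]), (48, [4]), (57, []), (61, []), (48, [5, 6, 7, 8, 7, 6, 4, 5, 2, 4]), (62, []), (19, [])],
   [(20, []), (20, [5, 6, 7, 8, 5, 6, 7, 5, 6, 5]), (40, [2, 8, 5, 1]), (32, [6, 7, 3, 8, 5, 6, 7, 5, 6, 4, 5]), (47, [8, 4, 5, 0, 6, 7, 6, 0]), (28, [5, 6, 7, 8, 5, 6, 7, 5, 6, 2, 4]), (63, []), (27, [5, 6, 7, 8, 5, 6, 7, 5, 6, 2, 4]), (20, [0, 6, 7, 6, 0]), (43, [4, 5, 6, 7, 8, 5, 6, 7, 2, 6, 5])],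
   [(32, [6, 7, 3, 8, 5, 6, 7, 5, 6, 4, 5]), (32, [7, 4, 5, 6, 0, 7, 4, 5, 4]), (39, [2, 8, 5, 1]), (20, []), (42, [6, 7, 8, 6, 7, 6]), (24, [4, 5, 6, 7, 8, 2, 6, 5, 4]), (64, []), (23, [4, 5, 6, 7, 8, 2, 6, 5, 4]), (40, [5, 0, 6, 7, 8, 7, 6, 5, 0]), (35, [6, 7, 8, 6, 7, 6, 4])],
   [(41, [5, 6, 7, 8, 5, 6, 7, 5, 6, 5]), (63, [5, 6, 7, 8, 5, 6, 7, 5, 6, 5]), (41, [2, 8, 5, 1]), (52, [7, 4, 5, 6, 0, 7, 4, 5, 4]), (49, [4]), (41, [8, 4, 5, 6, 4, 5, 4]), (20, []), (41, [5, 2, 0]), (63, [0, 6, 7, 6, 0]), (41, [4, 5, 6, 7, 8, 6, 7, 6, 5, 4, 0])],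
   [(42, [7, 8, 7, 5]), (50, [5, 6, 7, 8, 6, 7, 4, 5, 3, 6, 4]), (50, [7, 6, 5, 4, 2]), (30, [6, 7, 8, 6, 7, 6, 4]), (40, [6, 7, 8, 6, 7, 6]), (42, [5]), (65, []), (22, []), (42, [5, 2, 0]), (21, [])],
   [(36, [6, 7, 8, 6, 7, 4, 5, 4, 0]), (22, []), (36, [7, 6, 5, 4, 2]), (31, [5, 6, 7, 8, 6, 7, 4, 5, 3, 6, 4]), (27, [6, 7, 8, 6, 7, 4, 5, 4, 0]), (36, [6, 7, 8, 6, 7, 5, 4, 0]), (22, [5, 0, 6, 7, 8, 7, 6, 5, 0]), (47, [4, 5, 6, 7, 8, 6, 0, 7, 5]), (66, []), (39, [5, 6, 7, 8, 6, 7, 5, 6, 5, 4, 3])],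
   [(51, [6, 7, 8, 6, 7, 4, 5, 4, 0]), (66, []), (44, [7, 8, 7, 5]), (51, [5, 6, 7, 8, 6, 7, 4, 5, 3, 6, 4]), (45, [6, 7, 8, 6, 7, 4, 5, 4, 0]), (44, [5]), (66, [5, 0, 6, 7, 8, 7, 6, 5, 0]), (44, [5, 2, 0]), (22, []), (44, [4, 5, 6, 7, 8, 6, 7, 6, 5, 4, 0])],
   [(37, []), (46, []), (33, [5, 6, 7, 8, 7, 6, 4, 3, 5]), (33, [4, 5, 6, 7, 8, 7, 6, 4, 5, 4, 2]), (44, [7, 8, 4, 5, 6, 7, 6, 4, 1]), (25, []), (46, [5]), (45, [4, 3]), (23, []), (45, [7, 8, 6, 7, 1])],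
   [(33, []), (45, []), (37, [5, 6, 7, 8, 7, 6, 4, 3, 5]), (37, [4, 5, 6, 7, 8, 7, 6, 4, 5, 4, 2]), (66, [7, 8, 4, 5, 6, 7, 6, 4, 1]), (29, []), (45, [5]), (37, [4, 5, 6, 7, 8, 7, 6, 4, 5, 2]), (27, []), (67, [])],
   [(47, [4, 5, 6, 7, 8, 5, 6, 7, 5, 6, 5, 4]), (30, [8, 4, 5, 6, 7, 4, 2, 6]), (30, [4, 5, 6, 7, 8, 7, 6, 5, 4]), (50, [4, 5, 6, 7, 8, 5, 6, 7, 5, 6, 2]), (39, [6, 7, 8, 6, 5, 2, 4, 0]), (30, []), (68, []), (43, [7, 8, 5, 0, 6, 7, 6, 5, 4]), (30, [8, 4, 5, 4]), (27, [])],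
   [(67, [6, 7, 8, 4, 5, 6, 7, 4, 5, 6, 4]), (69, []), (70, []), (38, [5, 6, 7, 8, 6, 7, 6, 4, 5, 4, 2]), (38, [4]), (67, []), (58, [6, 7, 4, 5, 2, 6]), (38, [4, 5, 6, 7, 8, 7, 6, 4, 5, 2]), (67, [8, 4, 5, 4]), (29, [])],
   [(68, [8, 4, 5, 6, 7, 4, 2, 6]), (68, [6, 7, 2, 8, 6, 4, 5, 4]), (53, [7, 8, 7, 4, 5, 6, 4, 3, 0]), (53, [8, 7, 6, 4, 5, 3, 6, 4]), (41, [4]), (55, [7, 8, 7, 4, 5, 6, 4, 3, 0]), (30, []), (49, [4, 5, 2, 0, 4]), (68, [8, 4, 5, 4]), (49, [5, 6, 7, 8, 6, 7, 6, 1, 5])],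
   [(50, [6, 7, 8, 7, 6, 4, 3]), (42, [6, 7, 3, 8, 4, 5, 6, 7, 6, 4, 5]), (42, [4, 5, 6, 7, 1]), (47, [6, 7, 8, 5, 6, 7, 5, 6, 5, 4, 1]), (32, []), (50, [4]), (53, [8, 5, 6, 7, 4, 5, 6, 4]), (31, []), (50, [6, 7, 8, 7, 6]), (31, [6, 7, 6])],
   [(44, [7, 8, 4, 5, 6, 7, 6, 4, 1]), (56, []), (51, [6, 7, 8, 7, 6, 4, 3]), (44, [6, 7, 3, 8, 4, 5, 6, 7, 6, 4, 5]), (33, []), (51, [4]), (51, [5]), (51, [6, 7, 8, 7, 6]), (31, []), (52, [6, 7, 8, 4, 5, 6, 4, 5])],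
   [(52, [6, 7, 8, 7, 6, 4, 3]), (64, [7, 4, 5, 6, 0, 7, 4, 5, 4]), (52, [4, 5, 6, 7, 8, 7, 6, 4, 5, 4, 2]), (41, [7, 4, 5, 6, 0, 7, 4, 5, 4]), (53, [8, 5, 6, 7, 4, 5, 6, 4]), (52, [7]), (32, []), (52, [5]), (52, [6, 7, 8, 7, 6]), (51, [8, 5, 6, 7, 4, 5, 6, 4])],
   [(65, [6, 7, 8, 6, 5, 2, 6, 7, 4]), (65, [6, 3, 5, 6, 7, 8, 6, 7, 5, 6, 4]), (49, [6, 7, 8, 7, 4, 5, 4, 3, 0]), (49, [6, 4, 3, 5, 6, 7, 8, 4]), (52, [6, 7, 8, 4, 5, 6, 4, 5]), (34, []), (50, [6, 7, 8, 4, 5, 6, 4, 5]), (53, [6, 7, 8, 7, 6]), (53, [8]), (33, [])],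
   [(34, []), (54, [8, 6, 1]), (71, []), (54, [6, 7, 8, 6, 7, 6, 3]), (54, [8, 6, 4, 1]), (65, [6, 7, 8, 6, 5, 2, 6, 7, 4]), (54, [8, 1]), (71, [6, 7, 8, 7, 6]), (54, [8]), (70, [4, 5, 6, 7, 4, 5, 6, 4, 5, 4])],
   [(71, []), (55, [8, 6, 1]), (34, []), (55, [6, 7, 8, 6, 7, 6, 3]), (55, [6, 7, 8, 6, 7, 6, 4, 3]), (49, [6, 7, 8, 7, 4, 5, 4, 3, 0]), (71, [6, 7, 8, 6, 1, 7]), (55, [6, 7, 8, 7, 6]), (71, [8]), (55, [4, 5, 6, 7, 4, 5, 6, 4, 5, 4])],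
   [(66, [7, 8, 4, 5, 6, 7, 6, 4, 1]), (51, []), (56, [6, 7, 8, 7, 6, 4, 3]), (66, [6, 7, 3, 8, 4, 5, 6, 7, 6, 4, 5]), (37, []), (66, [7, 8, 4, 5, 6, 7, 6, 1]), (56, [5]), (66, [5, 6, 7, 8, 4, 5, 6, 7, 6, 4, 5, 1]), (36, []), (72, [])],
   [(60, [7, 8, 6, 1, 7, 4]), (72, [6, 7, 8, 5, 6, 7, 4, 5, 6]), (58, [7, 8, 6, 1, 7, 4]), (73, []), (72, []), (38, []), (57, [8, 4, 5, 6, 4, 5, 4]), (67, [5, 6, 7, 8, 7, 6, 4, 5, 2, 4]), (72, [8, 5]), (37, [])],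
   [(38, []), (62, [5, 6, 7, 8, 5, 6, 7, 4, 5, 6, 5]), (57, [7, 8, 6, 1, 7, 4]), (67, [8, 5, 6, 7, 4, 5, 6, 5, 2, 4]), (61, [6, 7, 4, 5, 2, 6, 4]), (60, [7, 8, 6, 1, 7, 4]), (48, [6, 7, 5, 2, 6, 4]), (73, [8, 3, 6]), (59, [5, 6, 7, 8, 5, 6, 7, 4, 5, 6, 5]), (68, [5, 6, 7, 8, 4, 5, 6, 7, 6, 5, 4, 0])],
   [(62, [5, 6, 7, 8, 5, 6, 7, 4, 5, 6, 5]), (38, []), (74, []), (69, [4, 5, 6, 7, 8, 6, 7, 6, 4, 3, 5]), (69, [4]), (74, [7, 8, 6, 1, 7, 4]), (67, [6, 7, 2, 8, 6, 4, 5]), (59, [6, 7, 8, 6, 7, 6, 4]), (58, [5, 6, 7, 8, 5, 6, 7, 4, 5, 6, 5]), (59, [7, 4, 3])],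
   [(57, [7, 8, 6, 1, 7, 4]), (74, []), (38, []), (70, [4, 5, 6, 7, 8, 6, 7, 6, 4, 3, 5]), (60, [5, 6, 7, 8, 6, 7, 6, 4, 3, 5]), (58, [7, 8, 6, 1, 7, 4]), (74, [5, 6, 7, 8, 4, 5, 6, 1, 7, 4, 5, 6, 4, 5]), (70, [5, 6, 7, 8, 7, 6, 4, 5, 2, 4]), (74, [5, 6, 7, 8, 5, 6, 7, 4, 5, 6, 5]), (71, [7, 8, 4, 5, 6, 7, 4, 5, 6, 3, 5])],
   [(69, [6, 7, 5, 2, 6, 4]), (67, [6, 7, 2, 8, 6, 4, 5]), (75, []), (62, [0, 7, 4, 5, 4, 0]), (58, [6, 7, 4, 5, 2, 6, 4]), (61, [8, 4, 5, 6, 4, 5, 4]), (38, []), (75, [8, 5, 6, 4, 1, 5]), (69, [4, 5, 0, 6, 7, 8, 7, 6, 5, 0]), (63, [4, 5, 6, 7, 8, 6, 7, 5, 6, 5, 0, 4])],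
   [(59, [5, 6, 7, 8, 5, 6, 7, 4, 5, 6, 5]), (58, [5, 6, 7, 8, 5, 6, 7, 4, 5, 6, 5]), (72, [7, 8, 5, 6, 7, 3, 6, 4]), (61, [0, 7, 4, 5, 4, 0]), (67, [8, 4, 5]), (72, [8, 5]), (69, [4, 5, 0, 6, 7, 8, 7, 6, 5, 0]), (72, [4, 2, 8, 5, 6, 7, 6, 5, 4]), (38, []), (66, [4, 5, 6, 7, 8, 6, 7, 6, 1, 5])],
   [(63, [5, 6, 7, 8, 5, 6, 7, 5, 6, 5]), (41, [5, 6, 7, 8, 5, 6, 7, 5, 6, 5]), (63, [2, 8, 5, 1]), (64, [5, 6, 7, 8, 5, 6, 7, 5, 6, 5]), (68, [8, 4, 5, 0, 6, 7, 6, 0]), (63, [6, 7, 8, 5, 6, 7, 4, 5, 6]), (39, []), (64, [6, 7, 8, 5, 6, 7, 5, 6, 1, 5]), (41, [0, 6, 7, 6, 0]), (61, [4, 5, 6, 7, 8, 5, 6, 7, 6, 5, 4, 0])],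
   [(64, [5, 6, 7, 8, 5, 6, 7, 5, 6, 5]), (52, [7, 4, 5, 6, 0, 7, 4, 5, 4]), (64, [2, 8, 5, 1]), (63, [5, 6, 7, 8, 5, 6, 7, 5, 6, 5]), (65, [6, 7, 8, 6, 7, 6]), (64, [5, 6, 7, 8, 5, 6, 1, 7, 4, 5, 6, 5]), (40, []), (63, [5, 6, 7, 8, 3, 5, 6, 7, 5, 6]), (64, [5, 0, 6, 7, 8, 7, 6, 5, 0]), (75, [7, 8, 5, 6, 1, 7, 5, 4])],
   [(53, [7, 6, 4, 2, 8, 5, 6, 7, 6]), (53, [6, 7, 6, 4, 2, 8, 5, 6, 7, 6, 5]), (68, [8, 7, 6, 4]), (68, [4, 5, 6, 7, 8, 6, 0, 7, 5]), (64, [6, 7, 8, 6, 7, 6]), (54, [7, 6, 4, 2, 8, 5, 6, 7, 6]), (42, []), (68, [8, 7, 4, 3, 0]), (65, [5, 2, 0]), (73, [6, 7, 8, 2, 6, 7, 4, 5, 6, 4, 5])],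
   [(56, [6, 7, 8, 6, 7, 4, 5, 4, 0]), (44, []), (66, [7, 8, 7, 5]), (56, [5, 6, 7, 8, 6, 7, 4, 5, 3, 6, 4]), (46, [6, 7, 8, 6, 7, 4, 5, 4, 0]), (56, [6, 7, 8, 6, 7, 5, 4, 0]), (44, [5, 0, 6, 7, 8, 7, 6, 5, 0]), (56, [5, 6, 7, 8, 2, 6, 7, 4, 5, 6, 4, 5]), (43, []), (62, [5, 6, 7, 8, 6, 7, 6, 5, 4, 0])],
   [(48, [6, 7, 8, 4, 5, 6, 7, 4, 5, 6, 4]), (61, [8, 5, 6, 7, 4, 2, 6]), (73, [5, 6, 7, 8, 6, 7, 6, 4, 5, 4, 2]), (58, [4, 5, 2, 6, 7, 8, 5, 6, 4, 5]), (62, [8, 5, 4]), (48, []), (59, [8, 5, 6, 7, 4, 2, 6]), (57, [4, 5, 6, 7, 8, 7, 6, 4, 5, 2]), (48, [8, 4, 5, 4]), (46, [])],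
   [(49, [6, 7, 2, 8, 6, 4, 5, 4]), (49, [8, 4, 5, 6, 7, 4, 2, 6]), (65, [6, 7, 8, 4]), (65, [7, 8, 5, 0, 6, 7, 6, 5, 4]), (63, [6, 7, 8, 6, 5, 2, 4, 0]), (71, [7, 6, 4, 5, 2, 6, 4]), (47, []), (65, [7, 8, 4, 2, 1]), (49, [8, 4, 5, 4]), (58, [4, 5, 6, 7, 8, 6, 7, 5, 6, 4, 5, 1])],
   [(61, [6, 7, 4, 5, 2, 6]), (48, []), (76, []), (59, [5, 6, 7, 8, 6, 7, 6, 4, 5, 4, 2]), (59, [4]), (69, [6, 7, 8, 4, 5, 6, 7, 4, 5, 6, 4]), (62, [5, 6, 7, 8, 7, 6, 5, 2, 4, 0]), (69, [6, 7, 8, 6, 7, 6, 4]), (61, [5, 6, 7, 8, 7, 6, 5, 2, 4, 0]), (69, [7, 4, 3])],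
   [(73, [4, 5, 2, 6, 7, 8, 5, 6, 4, 5]), (76, []), (48, []), (60, [5, 6, 7, 8, 6, 7, 6, 4, 5, 4, 2]), (70, [4, 5, 6, 7, 8, 6, 7, 6, 4, 5, 4, 2]), (73, [5, 6, 7, 8, 6, 7, 6, 4, 5, 4, 2]), (70, [4, 5, 6, 7, 8, 4, 5, 6, 1, 7, 4, 5, 6, 4, 5, 4]), (60, [4, 5, 6, 7, 8, 7, 6, 4, 5, 2]), (70, [4, 5, 6, 7, 8, 5, 6, 7, 4, 5, 6, 5, 4]), (54, [4, 5, 6, 7, 4, 5, 6, 4, 5, 4])],
   [(55, []), (71, [8, 6, 1]), (54, []), (71, [6, 7, 8, 6, 7, 6, 3]), (71, [7, 8, 6, 1, 7, 4]), (68, [6, 4, 5, 2, 6, 7, 4]), (55, [7, 8, 6, 7, 6, 3]), (54, [6, 7, 8, 7, 6]), (55, [8]), (60, [5, 6, 7, 8, 5, 6, 0, 7, 4, 5, 4])],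
   [(74, [8, 4, 5, 6, 7, 4, 5, 6, 5, 2, 4]), (57, [6, 7, 8, 5, 6, 7, 4, 5, 6]), (62, [6, 7, 8, 6, 7, 4, 3, 5]), (75, [8, 4, 3, 5, 6, 7, 8, 5]), (57, []), (62, [8, 5]), (72, [8, 4, 5, 6, 4, 5, 4]), (62, [4, 5, 6, 7, 8, 6, 5, 2, 4]), (57, [8, 5]), (56, [])],
   [(70, [8, 5, 6, 7, 4, 5, 6, 5, 2, 4]), (75, [6, 7, 8, 6, 7, 3, 5, 6, 4, 5, 4]), (67, [4, 5, 6, 7, 8, 6, 7, 6, 4, 3, 5]), (57, []), (75, [8, 4, 3, 5, 6, 7, 8, 5]), (70, [4, 5, 6, 7, 8, 6, 7, 6, 4, 3, 5]), (75, [7, 8, 6, 1, 7, 4]), (58, [8, 3, 6]), (73, [5, 6, 7, 8, 5, 6, 7, 4, 5, 6, 5]), (65, [5, 6, 7, 8, 4, 5, 6, 7, 6, 0, 4])],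
   [(72, [4, 5, 2, 6, 7, 8, 5, 6, 4, 5, 4]), (60, []), (59, []), (76, [4, 5, 6, 7, 8, 6, 7, 6, 4, 3, 5]), (74, [5, 6, 7, 8, 6, 7, 6, 4, 3, 5]), (59, [7, 8, 6, 1, 7, 4]), (60, [5, 6, 7, 8, 4, 5, 6, 1, 7, 4, 5, 6, 4, 5]), (74, [6, 7, 8, 6, 7, 6, 4]), (60, [5, 6, 7, 8, 5, 6, 7, 4, 5, 6, 5]), (74, [6, 7, 8, 7, 6, 4])],
   [(76, [6, 7, 5, 2, 6, 4]), (73, [4, 5, 6, 7, 8, 4, 5, 6, 7, 3, 6]), (61, []), (72, [7, 8, 7, 6, 5, 3, 6, 4]), (73, [7, 8, 7, 6, 5, 3, 6, 4]), (75, [8, 4, 5, 6, 4, 5, 4]), (73, [7, 8, 6, 1, 7, 4]), (61, [8, 5, 6, 4, 1, 5]), (75, [5, 6, 7, 8, 5, 6, 7, 4, 5, 6, 5]), (64, [7, 8, 4, 5, 6, 1, 7, 5])],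
   [(75, [6, 7, 4, 5, 2, 6]), (70, []), (69, []), (74, [5, 6, 7, 8, 6, 7, 6, 4, 5, 4, 2]), (76, [4, 5, 6, 7, 8, 6, 7, 6, 4, 5, 4, 2]), (76, [6, 7, 8, 4, 5, 6, 7, 4, 5, 6, 4]), (76, [4, 5, 6, 7, 8, 4, 5, 6, 1, 7, 4, 5, 6, 4, 5, 4]), (76, [6, 7, 8, 6, 7, 6, 4]), (76, [4, 5, 6, 7, 8, 5, 6, 7, 4, 5, 6, 5, 4]), (76, [3])]]

/-- The inner derivations of the ten basis elements, ninety bits each. -/
def innerD : List ℕ := [0, 9449344656156838068224, 18889468183278395588608, 2417873544755438065550336, 4835707899151734380953601, 17188261890, 368935092607275506690, 369007150184142998533, 907063371861159246302213, 503819835396665438921316366]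

/-- The derivation of the outer automorphism. -/
def nD : ℕ := 464293664794586134874163206

/-- The derivation which does not extend. -/
def dOne : ℕ := 1210107565283850611326976

/-- The coordinates of a derivation. -/
def coordD : List ℕ := [0, 0, 0, 0, 0, 0, 0, 0, 0, 0, 0, 0, 0, 0, 0, 0, 0, 0, 0, 0, 0, 0, 0, 0, 0, 0, 0, 0, 0, 0, 0, 0, 0, 0, 32, 0, 0, 0, 0, 0, 0, 0, 0, 0, 0, 0, 0, 0, 0, 0, 0, 0, 0, 0, 0, 0, 224, 0, 0, 0, 0, 0, 0, 0, 0, 0, 0, 0, 96, 0, 0, 0, 0, 2, 4, 0, 0, 0, 0, 384, 2048, 8, 16, 0, 0, 1894, 0, 0, 1062, 0]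

/-- A left inverse of the residuals of the relations, ten images for each relation. -/
def backD : List (List ℕ) :=
  [[0, 0, 0, 0, 0, 0, 0, 0, 0, 0],
   [0, 0, 0, 0, 0, 0, 0, 0, 0, 0],
   [0, 0, 0, 0, 0, 0, 0, 0, 0, 0],
   [0, 0, 0, 0, 0, 0, 0, 0, 0, 0],
   [0, 0, 0, 0, 0, 0, 0, 0, 0, 0],
   [0, 0, 0, 0, 0, 0, 0, 0, 0, 0],
   [0, 0, 0, 0, 0, 0, 0, 0, 0, 0],
   [0, 0, 0, 0, 0, 0, 0, 0, 0, 0],
   [0, 0, 0, 0, 0, 0, 0, 0, 0, 0],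
   [0, 0, 0, 0, 0, 0, 0, 0, 0, 0],
   [0, 0, 0, 0, 0, 0, 0, 0, 0, 0],
   [0, 0, 0, 0, 0, 0, 0, 0, 0, 0],
   [0, 0, 0, 0, 0, 0, 0, 0, 0, 0],
   [0, 0, 0, 0, 0, 0, 0, 0, 0, 0],
   [0, 0, 0, 0, 0, 0, 0, 0, 0, 0],
   [0, 0, 0, 0, 0, 0, 0, 0, 0, 0],
   [0, 0, 0, 0, 0, 0, 0, 0, 0, 0],
   [0, 0, 0, 0, 0, 0, 0, 0, 0, 0],
   [0, 0, 0, 0, 0, 0, 0, 0, 0, 0],
   [0, 0, 0, 0, 4398046511104, 0, 0, 0, 0, 0],
   [0, 0, 0, 2251799813685248, 0, 0, 0, 0, 0, 0],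
   [0, 0, 0, 0, 0, 0, 0, 0, 0, 0],
   [0, 0, 0, 0, 0, 0, 0, 0, 0, 0],
   [0, 0, 21905526179716137984, 0, 0, 0, 0, 0, 0, 0],
   [0, 0, 9673778134475204284383232, 0, 0, 0, 0, 0, 154894459542345041422871574, 0],
   [21905508587530093568, 0, 21905719693762626560, 0, 0, 0, 0, 0, 0, 0],
   [9007199254740992, 0, 9007199272566789, 0, 251688206683506649523572761, 0, 0, 0, 0, 0],
   [19347553932693808219160576, 0, 0, 0, 0, 0, 0, 0, 0, 0],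
   [1048576, 0, 0, 870960373329318758961936385, 4194304, 21905719693804569602, 0, 21905719693972341762, 0, 870960388317368687924378627],
   [4620693217682128897, 0, 870960368717632740557617153, 4620904333578356744, 619272329784979067526720522, 0, 0, 251688206683577019051036996, 619272351690487664987889991, 870960373338326787948897873],
   [19347538944714248330149888, 0, 0, 21905508587530117120, 16384, 21905719693762679808, 0, 21905719693762843648, 19347553932693808219256832, 21905719693763433472],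
   [4611686019501129728, 851612834384604509558042627, 870960383705682664874863617, 19347558544590933952826368, 21905719693762630656, 211140618485805, 21914726971426813005, 870960388317368835521990093, 870960388326305789849708622, 21914727167980305487],
   [4611686018427387904, 21905719693764723714, 870960368717632740536645633, 870960383705682678823007233, 870960383705682669161446403, 211106258747437, 19347538953932553902359631, 851612834384674880258866639, 19347538953932563507334221, 870960388326306339605522510],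
   [1099511627776, 0, 2199023255552, 0, 8796093022208, 35184372088832, 0, 70368744177664, 492581209243648, 21906282643716047872],
   [1126999418470400, 0, 4505798650626048, 0, 9673778116452009681879040, 45071180663619589, 0, 153192756074774528, 297730156615696384, 96794959447764224429799434],
   [1154048504025317376, 0, 0, 29021303220475404660768768, 19347535480316936440512512, 870960420644242006905746436, 0, 19347780338076497519577090, 851612903857413847081030657, 793513652073724276864204811],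
   [1181745669221436620800, 0, 0, 9671406556917033397649408, 19342813113834066795298816, 37815870422299213568005, 77371257076240600759552008, 774014830092972782716464139, 0, 302305539399014335669250]]

/-- The element with two images. -/
def xPair : ℕ × List (Fin 7) := (96, [5])

/-- Its conjugate by the extra involution. -/
def xPair' : ℕ × List (Fin 7) := (96, [1, 4, 5, 4, 6, 5, 4])

/-- The perturbed element, conjugate to the central involution. -/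
def uPair : ℕ × List (Fin 7) := (352, [5])

/-- The perturbed conjugate, not conjugate to the central involution. -/
def vPair : ℕ × List (Fin 7) := (352, [1, 4, 5, 4, 6, 5, 4])

/-- The words of the two elements. -/
def xWord : List ℕ := [3, 7]

/-- The word of the second. -/
def xWord' : List ℕ := [3, 4, 6, 7, 6, 8, 7, 6]

/-- The difference for both. -/
def xDiff : ℕ := 8

end Cfsg.Agent.CoTwoCert.Rigid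

namespace Cfsg.Agent.CoTwoCert.Rigid

/-- The value of the outer derivation on the extra involution. -/
def nG : ℕ := 928

end Cfsg.Agent.CoTwoCert.Rigid
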