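import Cfsg.Agent.Lib.CoTwoType.ElemTen
import Cfsg.Agent.Lib.CoTwoCert.Rigid.Data

/-
The elementary subgroup of order 1024 as ten bit numbers, and elements acting on it (helper69).

* `lin`, `ePair`, `ee` : linear maps on codes, the pair and the element of a code
* `ee_xor`, `ee_inj`, `exists_ee` : the codes are the elementary subgroup
* `Acts` : an element acts on the codes as a list of images
* `pW`, `pW_acts`, `rels_spec` : words in the nine generators
-/

set_option autoImplicit false
set_option maxRecDepth 20000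

namespace Cfsg.Agent.CoTwoCert.Rigid

open CoTwoType

/-- The linear map with the given images of the bits. -/
def lin : List ℕ → ℕ → ℕ
  | [], _ => 0
  | a :: l, v => (bif v.testBit 0 then a else 0) ^^^ lin l (v >>> 1)

theorem lin_xor : ∀ (l : List ℕ) (u v : ℕ), lin l (u ^^^ v) = lin l u ^^^ lin l v
  | [], _, _ => by simp [lin]
  | a :: l, u, v => by
    simp only [lin, Nat.testBit_xor, Nat.shiftRight_xor_distrib, lin_xor l]
    cases u.testBit 0 <;> cases v.testBit 0 <;>
      simp [Nat.xor_assoc, Nat.xor_comm, Nat.xor_left_comm]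

theorem lin_zero : ∀ l : List ℕ, lin l 0 = 0
  | [] => rfl
  | a :: l => by simp [lin, lin_zero l]

theorem lin_map (M : List ℕ) : ∀ (N : List ℕ) (c : ℕ), lin (N.map (lin M)) c = lin M (lin N c)
  | [], _ => by simp [lin, lin_zero]
  | a :: N, c => by
    simp only [List.map_cons, lin, lin_map M N, lin_xor]
    cases c.testBit 0 <;> simp [lin_zero]

theorem lin_lt {n : ℕ} : ∀ {l : List ℕ}, (∀ a ∈ l, a < 2 ^ n) → ∀ v, lin l v < 2 ^ n
  | [], _, _ => by simp [lin]
  | a :: l, h, v => by
    refine Nat.xor_lt_two_pow ?_ (lin_lt (fun b hb => h b (List.mem_cons_of_mem _ hb)) _)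
    cases v.testBit 0
    · simp
    · exact h a List.mem_cons_self

/-- The product of the selected entries. -/
def bitProd {M : Type*} [Monoid M] : List M → ℕ → M
  | [], _ => 1
  | a :: l, v => (bif v.testBit 0 then a else 1) * bitProd l (v >>> 1)

/-- The pair of a code. -/
def ePairs : List (ℕ × List (Fin 7)) → ℕ → ℕ × List (Fin 7)
  | [], _ => (0, [])
  | a :: l, v => mulP (bif v.testBit 0 then a else (0, [])) (ePairs l (v >>> 1))

/-- The pair of a code. -/
def ePair (c : ℕ) : ℕ × List (Fin 7) := ePairs eGen c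

/-- The letters: the nine generators. -/
def gen (i : ℕ) : ℕ × List (Fin 7) := gens.getD i (0, [])

/-- The pair of a word in the nine generators. -/
def pairW : List ℕ → ℕ × List (Fin 7)
  | [] => (0, [])
  | i :: w => mulP (gen i) (pairW w)

universe u

variable {G : Type u} [Group G] {z : G}

theorem mulP_lt {a b : ℕ × List (Fin 7)} (ha : a.1 < 512) (hb : b.1 < 512) : (mulP a b).1 < 512 :=
  CoTwoType.qm_lt _ ha _ (act_lt _ _ hb)

theorem gen_lt (i : ℕ) : (gen i).1 < 512 := by
  rcases lt_or_ge i 9 with h | h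
  · interval_cases i <;> decide
  · rw [gen, List.getD_eq_default _ _ (by exact h)]; norm_num

theorem pairW_lt : ∀ w, (pairW w).1 < 512
  | [] => by simp [pairW]
  | i :: w => mulP_lt (gen_lt i) (pairW_lt w)

theorem eGen_lt : ∀ a ∈ eGen, a.1 < 512 := by decide

theorem ePairs_lt : ∀ (l : List (ℕ × List (Fin 7))), (∀ a ∈ l, a.1 < 512) → ∀ c, (ePairs l c).1 < 512
  | [], _, _ => by simp [ePairs]
  | a :: l, h, c => by
    refine mulP_lt ?_ (ePairs_lt l (fun b hb => h b (List.mem_cons_of_mem _ hb)) _)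
    cases c.testBit 0
    · simp
    · exact h a List.mem_cons_self

theorem ePair_lt (c : ℕ) : (ePair c).1 < 512 := ePairs_lt eGen eGen_lt c

variable (L : Base z)

/-- The element of a code. -/
def ee (c : ℕ) : G := bitProd (eGen.map L.el) c

theorem el_zero : L.el (0, []) = 1 := by simp [Base.el, L.x_zero]

theorem el_ePairs : ∀ (l : List (ℕ × List (Fin 7))), (∀ a ∈ l, a.1 < 512) → ∀ c,
    L.el (ePairs l c) = bitProd (l.map L.el) c
  | [], _, _ => el_zero L
  | a :: l, h, c => by
    have hl := fun b hb => h b (List.mem_cons_of_mem _ hb)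
    rw [ePairs, ← L.el_mul ?_ (ePairs_lt l hl _), el_ePairs l hl]
    · simp only [List.map_cons, bitProd]
      cases c.testBit 0
      · simp [el_zero]
      · rfl
    · cases c.testBit 0
      · simp
      · exact h a List.mem_cons_self

theorem el_ePair (c : ℕ) : L.el (ePair c) = ee L c := el_ePairs L eGen eGen_lt c

theorem ee_zero : ee L 0 = 1 := by
  rw [← el_ePair]
  show L.el (ePair 0) = 1
  rw [show ePair 0 = (0, []) by decide +kernel, el_zero]

theorem bitProd_mem {H : Subgroup G} : ∀ {l : List G}, (∀ a ∈ l, a ∈ H) → ∀ c, bitProd l c ∈ H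
  | [], _, _ => H.one_mem
  | a :: l, h, c => by
    refine H.mul_mem ?_ (bitProd_mem (fun b hb => h b (List.mem_cons_of_mem _ hb)) _)
    cases c.testBit 0
    · exact H.one_mem
    · exact h a List.mem_cons_self

theorem ee_mem (c : ℕ) : ee L c ∈ L.E := by
  refine bitProd_mem (fun a ha => ?_) c
  obtain ⟨p, hp, rfl⟩ := List.mem_map.1 ha
  exact Subgroup.subset_closure ⟨p, hp, rfl⟩

theorem bitProd_xor {H : Subgroup G} (hH : ∀ a ∈ H, ∀ b ∈ H, a * a = 1 ∧ a * b = b * a) :
    ∀ {l : List G}, (∀ a ∈ l, a ∈ H) → ∀ u v, bitProd l (u ^^^ v) = bitProd l u * bitProd l v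
  | [], _, _, _ => by simp [bitProd]
  | a :: l, h, u, v => by
    have ha := h a List.mem_cons_self
    have hl := fun b hb => h b (List.mem_cons_of_mem _ hb)
    have hx := bitProd_mem hl (u >>> 1)
    simp only [bitProd, Nat.testBit_xor, Nat.shiftRight_xor_distrib, bitProd_xor hH hl]
    cases u.testBit 0 <;> cases v.testBit 0 <;> simp only [bne_self_eq_false, Bool.false_bne, Bool.true_bne,
      Bool.not_false, cond_true, cond_false, one_mul]
    · rw [← mul_assoc a, (hH a ha _ hx).2, mul_assoc]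
    · rw [mul_assoc]
    · rw [← mul_assoc (a * _), mul_assoc a _ a, ← (hH a ha _ hx).2, ← mul_assoc a, (hH a ha a ha).1, one_mul]

variable (hS : L.Split)
include hS

theorem el_eq_one {a : ℕ × List (Fin 7)} (h : eqP a (0, []) = true) : L.el a = 1 := by
  rw [L.el_congr hS h, el_zero]

theorem ee_xor (u v : ℕ) : ee L (u ^^^ v) = ee L u * ee L v :=
  bitProd_xor (L.E_elem hS) (fun a ha => by
    obtain ⟨p, hp, rfl⟩ := List.mem_map.1 ha
    exact Subgroup.subset_closure ⟨p, hp, rfl⟩) u v

theorem ee_sq (c : ℕ) : ee L c * ee L c = 1 := by rw [← ee_xor L hS, Nat.xor_self, ee_zero]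

theorem ee_inv (c : ℕ) : (ee L c)⁻¹ = ee L c := inv_eq_of_mul_eq_one_right (ee_sq L hS c)

theorem ee_comm (u v : ℕ) : ee L u * ee L v = ee L v * ee L u := by
  rw [← ee_xor L hS, ← ee_xor L hS, Nat.xor_comm]

theorem exists_bit : ∀ a ∈ eGen, ∃ c < 1024, eqP a (ePair c) = true := by
  have h : ∀ i < 10, eqP (eGen.getD i (0, [])) (ePair (1 <<< i)) = true := by decide +kernel
  intro a ha
  obtain ⟨i, hi, rfl⟩ := List.getElem_of_mem ha
  have hi' : i < 10 := hi
  refine ⟨1 <<< i, ?_, ?_⟩
  · interval_cases i <;> decide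
  · rw [← List.getD_eq_getElem _ (0, []) hi]; exact h i hi'

theorem exists_ee {a : G} (ha : a ∈ L.E) : ∃ c < 1024, ee L c = a := by
  induction ha using Subgroup.closure_induction with
  | mem x hx =>
    obtain ⟨p, hp, rfl⟩ := hx
    obtain ⟨c, hc, e⟩ := exists_bit L hS p hp
    exact ⟨c, hc, by rw [L.el_congr hS e, el_ePair]⟩
  | one => exact ⟨0, by norm_num, ee_zero L⟩
  | mul x y _ _ hx hy =>
    obtain ⟨a, ha, rfl⟩ := hx
    obtain ⟨b, hb, rfl⟩ := hy
    exact ⟨a ^^^ b, Nat.xor_lt_two_pow (n := 10) ha hb, ee_xor L hS a b⟩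
  | inv x _ hx =>
    obtain ⟨a, ha, rfl⟩ := hx
    exact ⟨a, ha, (ee_inv L hS a).symm⟩

theorem ee_inj {u v : ℕ} (hu : u < 1024) (hv : v < 1024) (h : ee L u = ee L v) : u = v := by
  let f : Fin 1024 → L.E := fun c => ⟨ee L c.val, ee_mem L _⟩
  have hf : Function.Surjective f := fun a => by
    obtain ⟨c, hc, e⟩ := exists_ee L hS a.2
    exact ⟨⟨c, hc⟩, Subtype.ext e⟩
  have : Finite L.E := Finite.of_surjective f hf
  have hb := (Nat.bijective_iff_surjective_and_card f).2 ⟨hf, by rw [L.card_E hS, Nat.card_fin]⟩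
  exact congrArg Fin.val (hb.1 (a₁ := ⟨u, hu⟩) (a₂ := ⟨v, hv⟩) (Subtype.ext h))

/-- The element acts on the codes by the given images. -/
def Acts (y : G) (M : List ℕ) : Prop := ∀ c, y * ee L c * y⁻¹ = ee L (lin M c)

omit hS in
theorem conj_bitProd (y : G) : ∀ (l : List G) (c : ℕ),
    y * bitProd l c * y⁻¹ = bitProd (l.map fun a => y * a * y⁻¹) c
  | [], _ => by simp [bitProd]
  | a :: l, c => by
    simp only [List.map_cons, bitProd, ← conj_bitProd y l]
    cases c.testBit 0 <;> simp

theorem bitProd_ee : ∀ (M : List ℕ) (c : ℕ), bitProd (M.map (ee L)) c = ee L (lin M c)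
  | [], _ => (ee_zero L).symm
  | a :: M, c => by
    simp only [List.map_cons, bitProd, lin, ee_xor L hS, bitProd_ee M]
    cases c.testBit 0 <;> simp [ee_zero]

theorem acts_of_eGen {y : G} {M : List ℕ} (hM : M.length = 10)
    (h : ∀ i < 10, y * L.el (eGen.getD i (0, [])) * y⁻¹ = ee L (M.getD i 0)) : Acts L y M := by
  intro c
  show y * bitProd (eGen.map L.el) c * y⁻¹ = _
  rw [conj_bitProd, ← bitProd_ee L hS, List.map_map]
  congr 1
  refine List.ext_getElem (by simp [hM, show eGen.length = 10 from rfl]) fun i h1 h2 => ?_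
  have hi : i < eGen.length := by simpa using h1
  have hi' : i < M.length := by simpa using h2
  have hh := h i hi
  rw [List.getD_eq_getElem _ _ hi, List.getD_eq_getElem _ _ hi'] at hh
  simpa using hh

omit hS in
theorem Acts.mul {y y' : G} {M N : List ℕ} (h : Acts L y M) (h' : Acts L y' N) :
    Acts L (y * y') (N.map (lin M)) := fun c => by
  rw [lin_map, ← h, ← h']; group

omit hS in
theorem Acts.pair {y y' : G} {M : List ℕ} (h : Acts L y M) (h' : Acts L y' M) :
    ∀ c, Commute (y'⁻¹ * y) (ee L c) := fun c => by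
  have e : y * ee L c * y⁻¹ = y' * ee L c * y'⁻¹ := by rw [h, h']
  show y'⁻¹ * y * ee L c = ee L c * (y'⁻¹ * y)
  calc y'⁻¹ * y * ee L c = y'⁻¹ * (y * ee L c * y⁻¹) * y := by group
    _ = _ := by rw [e]; group

theorem mem_E_of_comm {y : G} (h : ∀ c, Commute y (ee L c)) : y ∈ L.E := by
  rw [← L.centralizer_E hS]
  refine Subgroup.mem_centralizer_iff.2 fun a ha => ?_
  obtain ⟨c, -, rfl⟩ := exists_ee L hS ha
  exact (h c).eq.symm

theorem Acts.mem_E {y y' : G} {M : List ℕ} (h : Acts L y M) (h' : Acts L y' M) : y'⁻¹ * y ∈ L.E :=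
  mem_E_of_comm L hS (Acts.pair L h h')

theorem Acts.ee_mul {y : G} {M : List ℕ} (h : Acts L y M) (d : ℕ) : Acts L (ee L d * y) M := fun c => by
  rw [mul_inv_rev, ee_inv L hS]
  calc ee L d * y * ee L c * (y⁻¹ * ee L d) = ee L d * (y * ee L c * y⁻¹) * ee L d := by group
    _ = _ := by rw [h, ee_comm L hS d, mul_assoc, ee_sq L hS, mul_one]

/-! ### The nine generators -/

/-- The product of a word in the nine generators. -/
def pW (w : List ℕ) : G := (w.map fun i => L.el (gen i)).prod

omit hS in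
theorem el_pairW : ∀ w, L.el (pairW w) = pW L w
  | [] => el_zero L
  | i :: w => by rw [pairW, ← L.el_mul (gen_lt i) (pairW_lt w), el_pairW w]; simp [pW]

omit hS in
theorem act_check : ∀ i < 9, ∀ k < 10,
    eqP (mulP (mulP (gen i) (eGen.getD k (0, []))) (invP (gen i))) (ePair ((acts.getD i []).getD k 0)) = true := by
  decide +kernel

omit hS in
theorem sq_check : ∀ i < 9, eqP (mulP (gen i) (gen i)) (0, []) = true := by decide +kernel

omit hS in
theorem acts_length : ∀ i < 9, (acts.getD i []).length = 10 := by decide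

theorem gen_acts {i : ℕ} (hi : i < 9) : Acts L (L.el (gen i)) (acts.getD i []) := by
  refine acts_of_eGen L hS (acts_length i hi) fun k hk => ?_
  have he : (eGen.getD k (0, [])).1 < 512 := by
    rw [List.getD_eq_getElem _ _ (show k < eGen.length from hk)]; exact eGen_lt _ (List.getElem_mem _)
  rw [L.el_inv hS (gen_lt i), L.el_mul (gen_lt i) he,
    L.el_mul (mulP_lt (gen_lt i) he) (act_lt _ _ (invQ_spec _ (gen_lt i)).1), ← el_ePair]
  exact L.el_congr hS (act_check i hi k hk)

theorem gen_sq {i : ℕ} (hi : i < 9) : L.el (gen i) * L.el (gen i) = 1 := by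
  rw [L.el_mul (gen_lt i) (gen_lt i)]; exact el_eq_one L hS (sq_check i hi)

omit hS in
theorem rels_check : ∀ r ∈ rels, (∀ i ∈ r.1, i < 9) ∧ (∀ i ∈ r.2.1, i < 9) ∧
    eqP (pairW r.1) (mulP (pairW r.2.1) (ePair r.2.2)) = true := by decide +kernel

theorem rels_spec {r : List ℕ × List ℕ × ℕ} (hr : r ∈ rels) : pW L r.1 = pW L r.2.1 * ee L r.2.2 := by
  rw [← el_pairW, ← el_pairW, ← el_ePair, L.el_mul (pairW_lt _) (ePair_lt _)]
  exact L.el_congr hS (rels_check r hr).2.2

end Cfsg.Agent.CoTwoCert.Rigid
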