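import Cfsg.Agent.Lib.CoTwoCert.Rigid.Group

/-
Derivations of the local subgroup into the elementary subgroup, ninety bits each (helper69).

* `dD`, `devA`, `res` : the values on generators, on words, on relations
* `coord_eq` : a derivation is an inner one, plus multiples of two others
-/

set_option autoImplicit false
set_option maxRecDepth 20000

namespace Cfsg.Agent.CoTwoCert.Rigid

/-- The value on a generator. -/
def dD (D i : ℕ) : ℕ := (D >>> (10 * i)) &&& 1023

/-- The action of a generator. -/
def actA (i v : ℕ) : ℕ := lin (acts.getD i []) v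

/-- The value on a word, started from a code. -/
def devA (D : ℕ) : List ℕ → ℕ → ℕ
  | [], a => a
  | i :: w, a => devA D w (actA i a ^^^ dD D i)

/-- The residual of a relation. -/
def res (D : ℕ) (r : List ℕ × List ℕ × ℕ) : ℕ := devA D r.1 0 ^^^ devA D r.2.1 0

/-- The correction from the residuals. -/
def back (D : ℕ) : List ((List ℕ × List ℕ × ℕ) × List ℕ) → ℕ
  | [] => 0
  | p :: l => lin p.2 (res D p.1) ^^^ back D l

/-- The twelve basic derivations. -/
def basisD : List ℕ := innerD ++ [nD, dOne]

/-- The derivation of the coordinates, corrected. -/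
def rebuild (D : ℕ) : ℕ := lin basisD (lin coordD D) ^^^ back D (rels.zip backD)

theorem dD_xor (D D' i : ℕ) : dD (D ^^^ D') i = dD D i ^^^ dD D' i := by
  rw [dD, dD, dD, Nat.shiftRight_xor_distrib, Nat.and_xor_distrib_right]

theorem dD_zero (i : ℕ) : dD 0 i = 0 := by simp [dD]

theorem devA_xor (D D' : ℕ) : ∀ (w : List ℕ) (a b : ℕ), devA (D ^^^ D') w (a ^^^ b) = devA D w a ^^^ devA D' w b
  | [], _, _ => rfl
  | i :: w, a, b => by
    simp only [devA]
    rw [← devA_xor D D' w, dD_xor, actA, lin_xor, actA, actA]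
    congr 1
    simp [Nat.xor_assoc, Nat.xor_comm, Nat.xor_left_comm]

theorem res_xor (D D' : ℕ) (r : List ℕ × List ℕ × ℕ) : res (D ^^^ D') r = res D r ^^^ res D' r := by
  rw [res, res, res, show (0 : ℕ) = 0 ^^^ 0 from rfl, devA_xor, devA_xor]
  simp [Nat.xor_assoc, Nat.xor_comm, Nat.xor_left_comm]

theorem back_xor (D D' : ℕ) : ∀ l, back (D ^^^ D') l = back D l ^^^ back D' l
  | [] => by simp [back]
  | p :: l => by
    simp only [back, res_xor, lin_xor, back_xor D D' l]
    simp [Nat.xor_assoc, Nat.xor_comm, Nat.xor_left_comm]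

theorem rebuild_xor (D D' : ℕ) : rebuild (D ^^^ D') = rebuild D ^^^ rebuild D' := by
  simp only [rebuild, lin_xor, back_xor]
  simp [Nat.xor_assoc, Nat.xor_comm, Nat.xor_left_comm]

/-- Additive functions agreeing on the bits agree below the power of two. -/
theorem eq_of_units {f g : ℕ → ℕ} (hf : ∀ a b, f (a ^^^ b) = f a ^^^ f b) (hg : ∀ a b, g (a ^^^ b) = g a ^^^ g b) :
    ∀ n, (∀ j < n, f (1 <<< j) = g (1 <<< j)) → ∀ D < 2 ^ n, f D = g D := by
  have h0 : ∀ {f : ℕ → ℕ}, (∀ a b, f (a ^^^ b) = f a ^^^ f b) → f 0 = 0 := fun {f} hf => by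
    have := hf 0 0
    simpa using this
  intro n
  induction n with
  | zero =>
    intro _ D hD
    obtain rfl : D = 0 := by simpa using hD
    rw [h0 hf, h0 hg]
  | succ n ih =>
    intro h D hD
    have ih' := ih fun j hj => h j (Nat.lt_succ_of_lt hj)
    rcases lt_or_ge D (2 ^ n) with hlt | hge
    · exact ih' D hlt
    · have hbit : D.testBit n = true := by
        have hq : D / 2 ^ n = 1 := Nat.div_eq_of_lt_le (by simpa using hge) (by rw [pow_succ] at hD; linarith)
        simp [Nat.testBit_eq_decide_div_mod_eq, hq]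
      have hs : 1 <<< n = 2 ^ n := by simp [Nat.shiftLeft_eq]
      have hlt : D ^^^ 1 <<< n < 2 ^ n := by
        refine Nat.lt_pow_two_of_testBit _ fun i hi => ?_
        rw [hs, Nat.testBit_xor, Nat.testBit_two_pow]
        rcases eq_or_lt_of_le hi with rfl | hi'
        · simp [hbit]
        · have : D.testBit i = false :=
            Nat.testBit_eq_false_of_lt (lt_of_lt_of_le hD (Nat.pow_le_pow_right (by norm_num) hi'))
          simp [this, hi'.ne]
      have e : D = (D ^^^ 1 <<< n) ^^^ 1 <<< n := by rw [Nat.xor_assoc, Nat.xor_self, Nat.xor_zero]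
      rw [e, hf, hg, ih' _ hlt, h n (Nat.lt_succ_self n)]

theorem rebuild_units : ∀ j < 90, rebuild (1 <<< j) = 1 <<< j := by decide +kernel

theorem inner_units : ∀ i < 9, ∀ b < 10, dD (lin innerD (1 <<< b)) i = actA i (1 <<< b) ^^^ 1 <<< b := by
  decide +kernel

theorem inner_eq {e i : ℕ} (he : e < 1024) (hi : i < 9) : dD (lin innerD e) i = actA i e ^^^ e :=
  eq_of_units (f := fun e => dD (lin innerD e) i) (g := fun e => actA i e ^^^ e)
    (fun a b => by simp only [lin_xor, dD_xor])
    (fun a b => by simp only [actA, lin_xor]; simp [Nat.xor_assoc, Nat.xor_comm, Nat.xor_left_comm])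
    10 (inner_units i hi) e (by simpa using he)

theorem back_zero {D : ℕ} : ∀ {l}, (∀ p ∈ l, res D p.1 = 0) → back D l = 0
  | [], _ => rfl
  | p :: l, h => by
    rw [back, h p List.mem_cons_self, lin_zero, back_zero fun q hq => h q (List.mem_cons_of_mem _ hq)]
    rfl

theorem coord_lt (D : ℕ) : lin coordD D < 4096 := lin_lt (n := 12) (by decide +kernel) D

theorem basis_split : ∀ c < 4096, lin basisD c = (lin innerD (c % 1024) ^^^ (bif c.testBit 10 then nD else 0)) ^^^
    (bif c.testBit 11 then dOne else 0) := by decide +kernel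

/-- A derivation is inner up to two others. -/
theorem coord_eq {D : ℕ} (hD : D < 2 ^ 90) (h : ∀ r ∈ rels, res D r = 0) :
    ∃ e < 1024, ∃ a b : Bool, D = (lin innerD e ^^^ (bif a then nD else 0)) ^^^ (bif b then dOne else 0) := by
  have hr := eq_of_units (f := rebuild) (g := fun D => D) rebuild_xor (fun _ _ => rfl) 90 rebuild_units D hD
  rw [rebuild, back_zero (fun p hp => h p.1 (List.of_mem_zip hp).1), Nat.xor_zero,
    basis_split _ (coord_lt D)] at hr
  exact ⟨_, Nat.mod_lt _ (by norm_num), _, _, hr.symm⟩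

/-- Nine values in one number. -/
def packD : List ℕ → ℕ
  | [] => 0
  | a :: l => a + 1024 * packD l

theorem packD_lt : ∀ {l : List ℕ}, (∀ a ∈ l, a < 1024) → packD l < 2 ^ (10 * l.length)
  | [], _ => by simp [packD]
  | a :: l, h => by
    have h1 := h a List.mem_cons_self
    have h2 := packD_lt fun b hb => h b (List.mem_cons_of_mem _ hb)
    rw [packD, List.length_cons, Nat.mul_succ, pow_add, show (2 : ℕ) ^ 10 = 1024 by norm_num]
    nlinarith

theorem dD_packD : ∀ {l : List ℕ}, (∀ a ∈ l, a < 1024) → ∀ i, dD (packD l) i = l.getD i 0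
  | [], _, i => by simp [packD, dD]
  | a :: l, h, i => by
    have h1 := h a List.mem_cons_self
    cases i with
    | zero =>
      simp only [dD, packD, List.getD_cons_zero, Nat.mul_zero, Nat.shiftRight_zero]
      rw [show (1023 : ℕ) = 2 ^ 10 - 1 from rfl, Nat.and_two_pow_sub_one_eq_mod]
      norm_num
      omega
    | succ i =>
      rw [List.getD_cons_succ, ← dD_packD (fun b hb => h b (List.mem_cons_of_mem _ hb)) i, dD, dD, packD,
        show 10 * (i + 1) = 10 + 10 * i by ring, Nat.shiftRight_add]
      congr 2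
      rw [Nat.shiftRight_eq_div_pow]
      norm_num
      omega

end Cfsg.Agent.CoTwoCert.Rigid
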