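import Cfsg.Agent.Lib.CoTwoCert.Rigid.Index
import Cfsg.Agent.Lib.Solvable.Gaschutz

/-
The fibre product over the action on the elementary subgroup, and a section of it (helper69).

* `fib`, `kG`, `dia` : the fibre product, its kernel, the diagonal
* `exists_section` : a homomorphism of the model into the group, the identity on codes
-/

set_option autoImplicit false

namespace Cfsg.Agent.CoTwoCert.Rigid

open CoTwoType
open scoped Pointwise

universe u v

variable {G : Type u} {T : Type v} [Group G] [Group T] {z : G} {z0 : T}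

theorem el_transfer (L : Base z) (hS : L.Split) (L0 : Base z0) (hS0 : L0.Split) {a b : ℕ × List (Fin 7)}
    (ha : a.1 < 512) (hb : b.1 < 512) (h : L0.el a = L0.el b) : L.el a = L.el b :=
  L.el_congr hS ((L0.el_eq_iff hS0 ha hb).1 h)

theorem ee_transfer (L : Base z) (hS : L.Split) (L0 : Base z0) (hS0 : L0.Split) {a b : ℕ}
    (h : ee L0 a = ee L0 b) : ee L a = ee L b := by
  rw [← el_ePair, ← el_ePair] at h ⊢
  exact el_transfer L hS L0 hS0 (ePair_lt a) (ePair_lt b) h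

/-- The pairs of generators of the centraliser part. -/
def diaGens (L : Base z) (L0 : Base z0) : Set (G × T) :=
  {c | ∃ a ∈ eGen ++ gens, (L.el a, L0.el a) = c}

/-- The fibre product. -/
def fib (L : Base z) (L0 : Base z0) (x : G) (gT : T) : Subgroup (G × T) :=
  Subgroup.closure (diaGens L L0 ∪ {(x, gT)} ∪ Set.range fun c : ℕ => ((ee L c, 1) : G × T))

variable (L : Base z) (hS : L.Split) (L0 : Base z0) (hS0 : L0.Split)

include hS hS0 in
theorem dia_pair {y : G × T} (hy : y ∈ Subgroup.closure (diaGens L L0)) :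
    ∃ a : ℕ × List (Fin 7), a.1 < 512 ∧ y = (L.el a, L0.el a) := by
  induction hy using Subgroup.closure_induction with
  | mem y hy =>
    obtain ⟨a, ha, rfl⟩ := hy
    exact ⟨a, (by decide : ∀ a ∈ eGen ++ gens, a.1 < 512) a ha, rfl⟩
  | one => exact ⟨(0, []), by norm_num, by rw [el_zero, el_zero]; rfl⟩
  | mul y w _ _ hy hw =>
    obtain ⟨a, ha, rfl⟩ := hy
    obtain ⟨b, hb, rfl⟩ := hw
    exact ⟨mulP a b, mulP_lt ha hb, by rw [Prod.mk_mul_mk, L.el_mul ha hb, L0.el_mul ha hb]⟩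
  | inv y _ hy =>
    obtain ⟨a, ha, rfl⟩ := hy
    exact ⟨invP a, act_lt _ _ (invQ_spec _ ha).1, by rw [Prod.inv_mk, L.el_inv hS ha, L0.el_inv hS0 ha]⟩

/-- The diagonal of the elementary subgroups. -/
def dia (L : Base z) (hS : L.Split) (L0 : Base z0) (hS0 : L0.Split) : Subgroup (G × T) where
  carrier := Set.range fun c : ℕ => (ee L c, ee L0 c)
  one_mem' := ⟨0, by simp [ee_zero]⟩
  mul_mem' := by
    rintro _ _ ⟨a, rfl⟩ ⟨b, rfl⟩
    exact ⟨a ^^^ b, by simp [ee_xor L hS, ee_xor L0 hS0]⟩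
  inv_mem' := by
    rintro _ ⟨a, rfl⟩
    exact ⟨a, by simp [ee_inv L hS, ee_inv L0 hS0]⟩

variable {x : G} {gT : T}

theorem dia_le_fib : Subgroup.closure (diaGens L L0) ≤ fib L L0 x gT :=
  Subgroup.closure_mono (Set.subset_union_left.trans Set.subset_union_left)

theorem ee_dia_mem (c : ℕ) : (ee L c, ee L0 c) ∈ Subgroup.closure (diaGens L L0) := by
  have key : ∀ l : List (ℕ × List (Fin 7)), (∀ a ∈ l, a ∈ eGen ++ gens) → ∀ c,
      (bitProd (l.map L.el) c, bitProd (l.map L0.el) c) ∈ Subgroup.closure (diaGens L L0) := by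
    intro l
    induction l with
    | nil => intro _ c; exact one_mem _
    | cons a l ih =>
      intro h c
      simp only [List.map_cons, bitProd, ← Prod.mk_mul_mk]
      refine mul_mem ?_ (ih (fun b hb => h b (List.mem_cons_of_mem _ hb)) _)
      cases c.testBit 0
      · exact one_mem _
      · exact Subgroup.subset_closure ⟨a, h a List.mem_cons_self, rfl⟩
  exact key eGen (fun a ha => List.mem_append_left _ ha) c

variable (hx : Acts L x gAct) (hgT : Acts L0 gT gAct)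
include hS hS0 hx hgT

theorem fib_acts [Finite G] [Finite T] {y : G × T} (hy : y ∈ fib L L0 x gT) :
    ∃ M, Acts L y.1 M ∧ Acts L0 y.2 M := by
  rw [fib, ← Subgroup.mem_toSubmonoid, Subgroup.closure_toSubmonoid_of_finite] at hy
  induction hy using Submonoid.closure_induction with
  | mem y hy =>
    rcases hy with (⟨a, ha, rfl⟩ | hy) | ⟨c, rfl⟩
    · rcases List.mem_append.1 ha with ha | ha
      · obtain ⟨c, -, e⟩ := exists_bit L hS a ha
        refine ⟨idM, ?_, ?_⟩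
        · show Acts L (L.el a) idM
          rw [L.el_congr hS e, el_ePair, ← mul_one (ee L c)]
          exact (idM_acts L hS).ee_mul L hS c
        · show Acts L0 (L0.el a) idM
          rw [L0.el_congr hS0 e, el_ePair, ← mul_one (ee L0 c)]
          exact (idM_acts L0 hS0).ee_mul L0 hS0 c
      · obtain ⟨i, hi, rfl⟩ := List.getElem_of_mem ha
        refine ⟨acts.getD i [], ?_⟩
        rw [← List.getD_eq_getElem _ (0, []) hi]
        exact ⟨gen_acts L hS hi, gen_acts L0 hS0 hi⟩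
    · rw [Set.mem_singleton_iff] at hy
      subst hy
      exact ⟨gAct, hx, hgT⟩
    · refine ⟨idM, ?_, idM_acts L0 hS0⟩
      show Acts L (ee L c) idM
      rw [← mul_one (ee L c)]
      exact (idM_acts L hS).ee_mul L hS c
  | one => exact ⟨idM, idM_acts L hS, idM_acts L0 hS0⟩
  | mul y w _ _ hy hw =>
    obtain ⟨M, h1, h2⟩ := hy
    obtain ⟨N, h3, h4⟩ := hw
    exact ⟨_, h1.mul L h3, h2.mul L0 h4⟩

theorem fib_ker [Finite G] [Finite T] {y : G × T} (hy : y ∈ fib L L0 x gT) (h : y.2 = 1) : y.1 ∈ L.E := by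
  obtain ⟨M, h1, h2⟩ := fib_acts L hS L0 hS0 hx hgT hy
  refine mem_E_of_comm L hS fun c => ?_
  have e : ee L0 (lin M c) = ee L0 c := by rw [← h2, h, one_mul, inv_one, mul_one]
  have e' := h1 c
  rw [ee_transfer L hS L0 hS0 e, mul_inv_eq_iff_eq_mul] at e'
  exact e'

theorem exists_section [Finite G] [Finite T] :
    ∃ Φ : ↥(N0 L0 gT) →* G, (∀ y : ↥(N0 L0 gT), (Φ y, (y : T)) ∈ fib L L0 x gT) ∧
      ∀ (c : ℕ) (y : ↥(N0 L0 gT)), (y : T) = ee L0 c → Φ y = ee L c := by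
  classical
  set F := fib L L0 x gT with hF
  have hsnd : ∀ y ∈ F, y.2 ∈ N0 L0 gT := by
    intro y hy
    have : F ≤ (N0 L0 gT).comap (MonoidHom.snd G T) := (Subgroup.closure_le _).2 (by
      rintro y ((⟨a, ha, rfl⟩ | hy) | ⟨c, rfl⟩)
      · exact el_mem_N0 L0 ha gT
      · rw [Set.mem_singleton_iff] at hy; subst hy; exact gT_mem_N0 L0 gT
      · exact (N0 L0 gT).one_mem)
    exact this hy
  let π : ↥F →* ↥(N0 L0 gT) :=
    ((MonoidHom.snd G T).comp F.subtype).codRestrict _ fun y => hsnd _ y.2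
  have hπ : Function.Surjective π := by
    have : N0 L0 gT ≤ F.map (MonoidHom.snd G T) := (Subgroup.closure_le _).2 (by
      rintro c (⟨a, ha, rfl⟩ | hc)
      · exact ⟨_, dia_le_fib L L0 (Subgroup.subset_closure ⟨a, ha, rfl⟩), rfl⟩
      · exact ⟨(x, gT), Subgroup.subset_closure (Or.inl (Or.inr rfl)), hc.symm⟩)
    rintro ⟨c, hc⟩
    obtain ⟨y, hy, e⟩ := this hc
    exact ⟨⟨y, hy⟩, Subtype.ext e⟩
  have hker : ∀ y : ↥F, (y : G × T).2 = 1 → ∃ c, (y : G × T) = (ee L c, 1) := fun y h => by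
    obtain ⟨c, -, e⟩ := exists_ee L hS (fib_ker L hS L0 hS0 hx hgT y.2 h)
    exact ⟨c, Prod.ext e.symm h⟩
  let K : Subgroup ↥F := π.ker
  let D : Subgroup ↥F := (dia L hS L0 hS0).subgroupOf F
  let A : Subgroup ↥F := (Subgroup.closure (diaGens L L0)).subgroupOf F
  let U : Subgroup ↥F := ((P0 L0).subgroupOf (N0 L0 gT)).comap π
  have hDn : D.Normal := ⟨fun d hd f => by
    obtain ⟨c, hc⟩ := Subgroup.mem_subgroupOf.1 hd
    obtain ⟨M, h1, h2⟩ := fib_acts L hS L0 hS0 hx hgT f.2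
    refine Subgroup.mem_subgroupOf.2 ⟨lin M c, ?_⟩
    show (ee L (lin M c), ee L0 (lin M c)) = (f : G × T) * (d : G × T) * (f : G × T)⁻¹
    rw [← hc]
    exact Prod.ext (h1 c).symm (h2 c).symm⟩
  have hDA : D ≤ A := fun d hd => by
    obtain ⟨c, hc⟩ := Subgroup.mem_subgroupOf.1 hd
    exact Subgroup.mem_subgroupOf.2 (hc ▸ ee_dia_mem L L0 c)
  have hKE : ∀ k : ↥F, k ∈ K ↔ ∃ c, (k : G × T) = (ee L c, 1) := fun k =>
    ⟨fun h => hker k (congrArg Subtype.val (MonoidHom.mem_ker.1 h)),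
      fun ⟨c, h⟩ => MonoidHom.mem_ker.2 (Subtype.ext (congrArg Prod.snd h))⟩
  have hAK : ∀ a ∈ A, a ∈ K → a = 1 := fun a ha hk => by
    obtain ⟨p, hp, e⟩ := dia_pair L hS L0 hS0 (Subgroup.mem_subgroupOf.1 ha)
    obtain ⟨c, hc⟩ := (hKE a).1 hk
    rw [e, Prod.mk.injEq] at hc
    refine Subtype.ext (e.trans (Prod.ext ?_ hc.2))
    show L.el p = 1
    rw [← el_zero L]
    exact el_transfer L hS L0 hS0 hp (by norm_num) (by rw [hc.2, el_zero])
  have hKU : K ≤ U := fun k hk => by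
    rw [Subgroup.mem_comap, MonoidHom.mem_ker.1 hk]; exact one_mem _
  have hAU : A ≤ U := fun a ha => by
    have : Subgroup.closure (diaGens L L0) ≤ (P0 L0).comap (MonoidHom.snd G T) :=
      (Subgroup.closure_le _).2 (by rintro _ ⟨b, hb, rfl⟩; exact el_mem_P0 L0 hb)
    exact this (Subgroup.mem_subgroupOf.1 ha)
  have hUKA : ∀ f ∈ U, ∃ k ∈ K, ∃ a ∈ A, f = k * a := fun f hf => by
    have : P0 L0 ≤ (Subgroup.closure (diaGens L L0)).map (MonoidHom.snd G T) := (Subgroup.closure_le _).2 (by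
      rintro _ ⟨b, hb, rfl⟩; exact ⟨_, Subgroup.subset_closure ⟨b, hb, rfl⟩, rfl⟩)
    obtain ⟨a, ha, e⟩ := this (Subgroup.mem_subgroupOf.1 hf)
    refine ⟨f * ⟨a, dia_le_fib L L0 ha⟩⁻¹, ?_, ⟨a, dia_le_fib L L0 ha⟩, Subgroup.mem_subgroupOf.2 ha, by group⟩
    refine MonoidHom.mem_ker.2 (Subtype.ext ?_)
    show (f : G × T).2 * a.2⁻¹ = 1
    rw [show a.2 = (f : G × T).2 from e, mul_inv_cancel]
  let q := QuotientGroup.mk' D
  let K' := K.map q
  have hK'n : K'.Normal := Subgroup.Normal.map inferInstance q (QuotientGroup.mk'_surjective D)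
  have hK'c : IsMulCommutative K' := ⟨⟨by
    rintro ⟨_, k, hk, rfl⟩ ⟨_, l, hl, rfl⟩
    obtain ⟨a, ha⟩ := (hKE k).1 hk
    obtain ⟨b, hb⟩ := (hKE l).1 hl
    refine Subtype.ext ?_
    show q k * q l = q l * q k
    rw [← map_mul, ← map_mul]
    congr 1
    refine Subtype.ext ?_
    show (k : G × T) * (l : G × T) = (l : G × T) * (k : G × T)
    rw [ha, hb, Prod.mk_mul_mk, Prod.mk_mul_mk, ee_comm L hS]⟩⟩
  have hcard : Nat.card K ∣ 1024 := by
    let ι : ↥K → L.E := fun k => ⟨(k : G × T).1, fib_ker L hS L0 hS0 hx hgT k.1.2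
      (congrArg Subtype.val (MonoidHom.mem_ker.1 k.2))⟩
    let ι' : ↥K →* L.E := MonoidHom.mk' ι fun _ _ => rfl
    have hinj : Function.Injective ι' := fun k l h => by
      obtain ⟨a, ha⟩ := (hKE k).1 k.2
      obtain ⟨b, hb⟩ := (hKE l).1 l.2
      refine Subtype.ext (Subtype.ext ?_)
      rw [ha, hb]
      have : (k : G × T).1 = (l : G × T).1 := congrArg Subtype.val h
      rw [ha, hb] at this
      simpa using this
    exact L.card_E hS ▸ Subgroup.card_dvd_of_injective ι' hinj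
  have hidx : U.index = 77 := by
    rw [Subgroup.index_comap_of_surjective _ hπ]; exact index_P0 L0 hS0 hgT
  have hqidx : (U.map q).index = 77 := by
    rw [Subgroup.index_map_eq _ (QuotientGroup.mk'_surjective D)
      (by rw [QuotientGroup.ker_mk']; exact hDA.trans hAU), hidx]
  have hcop : (Nat.card K').Coprime (U.map q).index := by
    rw [hqidx]
    exact Nat.Coprime.coprime_dvd_left ((Subgroup.card_map_dvd K q).trans hcard) (by norm_num)
  have hAK' : A.map q ⊓ K' = ⊥ := by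
    refine le_bot_iff.1 ?_
    rintro _ ⟨⟨a, ha, rfl⟩, ⟨k, hk, e⟩⟩
    have hd : k⁻¹ * a ∈ D := QuotientGroup.eq.1 e
    have hka : k ∈ A := by simpa using A.mul_mem ha (A.inv_mem (hDA hd))
    rw [hAK k hka hk, map_one] at e
    exact Subgroup.mem_bot.2 e.symm
  have hKA' : K' ⊔ A.map q = U.map q := by
    rw [← Subgroup.map_sup]
    refine congrArg (Subgroup.map q) (le_antisymm (sup_le hKU hAU) fun f hf => ?_)
    obtain ⟨k, hk, a, ha, rfl⟩ := hUKA f hf
    exact mul_mem (Subgroup.mem_sup_left hk) (Subgroup.mem_sup_right ha)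
  obtain ⟨H', hH'⟩ := Solvable.gaschutz_exists (G := ↥F ⧸ D) (K := K') (U := U.map q) (Subgroup.map_mono hKU)
    hcop hAK' hKA'
  let H := H'.comap q
  have hHK : ∀ h ∈ H, h ∈ K → h = 1 := fun h hh hk => by
    have h1 : q h ∈ K' ⊓ H' := ⟨⟨h, hk, rfl⟩, hh⟩
    rw [disjoint_iff.1 hH'.disjoint, Subgroup.mem_bot] at h1
    exact hAK h (hDA ((QuotientGroup.eq_one_iff h).1 h1)) hk
  let π' : ↥H →* ↥(N0 L0 gT) := π.comp H.subtype
  have hbij : Function.Bijective π' := by
    refine ⟨(injective_iff_map_eq_one π').2 fun h e => Subtype.ext (hHK h h.2 (MonoidHom.mem_ker.2 e)),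
      fun y => ?_⟩
    obtain ⟨f, rfl⟩ := hπ y
    obtain ⟨⟨⟨_, k, hk, rfl⟩, ⟨h', hh'⟩⟩, e⟩ := hH'.2 (q f)
    have : k⁻¹ * f ∈ H := by
      show q (k⁻¹ * f) ∈ H'
      rw [map_mul, map_inv, ← e]
      simpa using hh'
    exact ⟨⟨k⁻¹ * f, this⟩, by simp [π', MonoidHom.mem_ker.1 hk]⟩
  let e := MulEquiv.ofBijective π' hbij
  let Φ : ↥(N0 L0 gT) →* G := ((MonoidHom.fst G T).comp (F.subtype.comp H.subtype)).comp e.symm.toMonoidHom
  have hΦ : ∀ y, ((e.symm y : ↥F) : G × T) = (Φ y, (y : T)) := fun y => by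
    refine Prod.ext rfl ?_
    have h := congrArg Subtype.val (e.apply_symm_apply y)
    exact h
  refine ⟨Φ, fun y => hΦ y ▸ (e.symm y : ↥F).2, fun c y hy => ?_⟩
  let d : ↥F := ⟨(ee L c, ee L0 c), dia_le_fib L L0 (ee_dia_mem L L0 c)⟩
  have hd : d ∈ H := by
    show q d ∈ H'
    have h1 : q d = 1 := (QuotientGroup.eq_one_iff d).2 (Subgroup.mem_subgroupOf.2 ⟨c, rfl⟩ : d ∈ D)
    rw [h1]
    exact one_mem _
  have : e.symm y = ⟨d, hd⟩ := by
    rw [MulEquiv.symm_apply_eq]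
    exact Subtype.ext hy
  have h := hΦ y
  rw [this] at h
  exact (congrArg Prod.fst h).symm

end Cfsg.Agent.CoTwoCert.Rigid
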