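import Cfsg.Agent.Lib.CoTwoCert.Rigid.Basic

/-
The local subgroups (helper69).

* `P0`, `N0` : generated by the nine generators and the elementary subgroup, and the extra involution
* `gImg`, `nVal` : the prescribed images
* `lW`, `matW`, `lW_acts` : words in the ten letters and their actions
-/

set_option autoImplicit false
set_option maxRecDepth 20000

namespace Cfsg.Agent.CoTwoCert.Rigid

open CoTwoType

/-- The image of a basis element under the extra involution. -/
def gImg (i : ℕ) : ℕ × List (Fin 7) := ePair (gAct.getD i 0)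

/-- The value of the outer derivation on a generator. -/
def nVal (i : ℕ) : ℕ := (nD >>> (10 * i)) &&& 1023

/-- The ten matrices. -/
def mats : List (List ℕ) := acts ++ [gAct]

/-- The identity matrix. -/
def idM : List ℕ := (List.range 10).map (fun i => 1 <<< i)

/-- The matrix of a word. -/
def matW : List ℕ → List ℕ
  | [] => idM
  | s :: w => (matW w).map (lin (mats.getD s []))

universe u

variable {T : Type u} [Group T] {z : T}

/-- The local subgroup in the centraliser. -/
def P0 (L : Base z) : Subgroup T := Subgroup.closure {c | ∃ a ∈ eGen ++ gens, L.el a = c}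

/-- The local subgroup. -/
def N0 (L : Base z) (gT : T) : Subgroup T :=
  Subgroup.closure ({c | ∃ a ∈ eGen ++ gens, L.el a = c} ∪ {gT})

variable (L : Base z)

theorem el_mem_P0 {a : ℕ × List (Fin 7)} (ha : a ∈ eGen ++ gens) : L.el a ∈ P0 L :=
  Subgroup.subset_closure ⟨a, ha, rfl⟩

theorem el_mem_N0 {a : ℕ × List (Fin 7)} (ha : a ∈ eGen ++ gens) (gT : T) : L.el a ∈ N0 L gT :=
  Subgroup.subset_closure (Or.inl ⟨a, ha, rfl⟩)

theorem gT_mem_N0 (gT : T) : gT ∈ N0 L gT := Subgroup.subset_closure (Or.inr rfl)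

theorem P0_le_N0 (gT : T) : P0 L ≤ N0 L gT := Subgroup.closure_mono (Set.subset_union_left)

theorem gen_mem : ∀ i < 9, gen i ∈ eGen ++ gens := by decide +kernel

theorem gen_mem_P0 {i : ℕ} (hi : i < 9) : L.el (gen i) ∈ P0 L := el_mem_P0 L (gen_mem i hi)

theorem pW_mem_P0 {w : List ℕ} (hw : ∀ i ∈ w, i < 9) : pW L w ∈ P0 L :=
  Subgroup.list_prod_mem _ fun x hx => by
    obtain ⟨i, hi, rfl⟩ := List.mem_map.1 hx
    exact gen_mem_P0 L (hw i hi)

theorem E_le_P0 : L.E ≤ P0 L :=
  Subgroup.closure_mono (by rintro _ ⟨a, ha, rfl⟩; exact ⟨a, List.mem_append_left _ ha, rfl⟩)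

theorem ee_mem_P0 (c : ℕ) : ee L c ∈ P0 L := E_le_P0 L (ee_mem L c)

theorem P0_comm_z {y : T} (hy : y ∈ P0 L) : Commute y z := by
  have h : P0 L ≤ Subgroup.centralizer {z} := (Subgroup.closure_le _).2 fun c ⟨a, ha, e⟩ => by
    subst e
    refine Subgroup.mem_centralizer_singleton_iff.2 (L.el_comm ?_).eq
    exact (by decide : ∀ a ∈ eGen ++ gens, a.1 < 512) a ha
  exact Subgroup.mem_centralizer_singleton_iff.1 (h hy)

/-- A letter: one of the nine generators or the extra involution. -/
def ltr (gT : T) (s : ℕ) : T := if s < 9 then L.el (gen s) else gT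

/-- The product of a word of letters. -/
def lW (gT : T) (w : List ℕ) : T := (w.map (ltr L gT)).prod

theorem lW_nine (gT : T) {w : List ℕ} (hw : ∀ i ∈ w, i < 9) : lW L gT w = pW L w := by
  rw [lW, pW]
  congr 1
  exact List.map_congr_left fun i hi => if_pos (hw i hi)

theorem ltr_mem_N0 (gT : T) (s : ℕ) : ltr L gT s ∈ N0 L gT := by
  unfold ltr
  split_ifs with h
  · exact el_mem_N0 L (gen_mem s h) gT
  · exact gT_mem_N0 L gT

theorem lW_mem_N0 (gT : T) (w : List ℕ) : lW L gT w ∈ N0 L gT :=
  Subgroup.list_prod_mem _ fun x hx => by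
    obtain ⟨s, -, rfl⟩ := List.mem_map.1 hx
    exact ltr_mem_N0 L gT s

/-- The outer automorphism of the local subgroup of the model. -/
structure Outer (L : Base z) (gT : T) where
  /-- The map. -/
  θ : ↥(N0 L gT) →* T
  eGen_eq : ∀ (y : ↥(N0 L gT)), (y : T) ∈ L.E → θ y = y
  gen_eq : ∀ (i : ℕ) (y : ↥(N0 L gT)), i < 9 → (y : T) = L.el (gen i) → θ y = L.el (gen i) * L.el (ePair (nVal i))
  g_eq : ∀ (y : ↥(N0 L gT)), (y : T) = gT → θ y = gT * L.el (ePair nG)

variable (hS : L.Split)
include hS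

omit hS in
theorem eGen_bit : ∀ i < 10, eqP (eGen.getD i (0, [])) (ePair (1 <<< i)) = true := by decide +kernel

theorem gAct_acts {y : T} (h : ∀ i < 10, y * L.el (eGen.getD i (0, [])) * y⁻¹ = L.el (gImg i)) :
    Acts L y gAct :=
  acts_of_eGen L hS rfl fun i hi => by rw [h i hi, gImg, el_ePair]

theorem idM_acts : Acts L 1 idM :=
  acts_of_eGen L hS rfl fun i hi => by
    rw [one_mul, inv_one, mul_one, L.el_congr hS (eGen_bit i hi), el_ePair,
      (by decide : ∀ i < 10, idM.getD i 0 = 1 <<< i) i hi]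

theorem ltr_acts {gT : T} (hgT : Acts L gT gAct) {s : ℕ} (hs : s < 10) :
    Acts L (ltr L gT s) (mats.getD s []) := by
  unfold ltr
  split_ifs with h
  · rw [(by decide : ∀ s < 9, mats.getD s [] = acts.getD s []) s h]
    exact gen_acts L hS h
  · obtain rfl : s = 9 := by omega
    exact hgT

theorem lW_acts {gT : T} (hgT : Acts L gT gAct) : ∀ {w : List ℕ}, (∀ s ∈ w, s < 10) → Acts L (lW L gT w) (matW w)
  | [], _ => idM_acts L hS
  | s :: w, h => by
    have := (ltr_acts L hS hgT (h s List.mem_cons_self)).mul L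
      (lW_acts hgT (fun b hb => h b (List.mem_cons_of_mem _ hb)))
    simpa [lW, matW] using this

end Cfsg.Agent.CoTwoCert.Rigid
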