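import Cfsg.Agent.Lib.CoTwoCert.Rigid.IndexChecks

/-
The index of the part in the centraliser is 77 (helper69).

* `exists_coset` : every element is an orbit word times an element of the centraliser part
* `index_P0` : the index
-/

set_option autoImplicit false

namespace Cfsg.Agent.CoTwoCert.Rigid

open CoTwoType

universe u

variable {T : Type u} [Group T] {z : T} (L : Base z) (hS : L.Split) {gT : T} (hgT : Acts L gT gAct)
include hS hgT

theorem ltr_mul_coset {q : ℕ} (hq : q < 77) {s : ℕ} (hs : s < 10) :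
    ∃ r < 77, (lW L gT (tWord r))⁻¹ * (ltr L gT s * lW L gT (tWord q)) ∈ P0 L := by
  obtain ⟨hr, hw, he⟩ := sch_check q hq s hs
  rw [beq_iff_eq] at he
  refine ⟨(sch q s).1, hr, ?_⟩
  have h1 : Acts L (lW L gT (s :: tWord q)) (matW (s :: tWord q)) := lW_acts L hS hgT fun a ha => by
    rcases List.mem_cons.1 ha with rfl | ha
    · exact hs
    · exact (trans_check q hq).1 a ha
  have h2 : Acts L (lW L gT (tWord (sch q s).1 ++ (sch q s).2)) (matW (tWord (sch q s).1 ++ (sch q s).2)) :=
    lW_acts L hS hgT fun a ha => by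
      rcases List.mem_append.1 ha with ha | ha
      · exact (trans_check _ hr).1 a ha
      · exact (hw a ha).trans (by norm_num)
  have hm := E_le_P0 L (Acts.mem_E L hS (he ▸ h1) h2)
  have e : lW L gT (tWord (sch q s).1 ++ (sch q s).2) = lW L gT (tWord (sch q s).1) * pW L (sch q s).2 := by
    rw [← lW_nine L gT hw]; simp [lW]
  rw [e, mul_inv_rev, mul_assoc] at hm
  have h3 := (P0 L).mul_mem (pW_mem_P0 L hw) hm
  rw [← mul_assoc, mul_inv_cancel, one_mul] at h3
  simpa [lW] using h3

theorem exists_coset [Finite T] {y : T} (hy : y ∈ N0 L gT) :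
    ∃ q < 77, (lW L gT (tWord q))⁻¹ * y ∈ P0 L := by
  rw [N0, ← Subgroup.mem_toSubmonoid, Subgroup.closure_toSubmonoid_of_finite] at hy
  induction hy using Submonoid.closure_induction_left with
  | one => exact ⟨0, by norm_num, by simp [trans_nodup.2.2, lW, one_mem]⟩
  | mul_left x hx y _ ih =>
    obtain ⟨q, hq, hm⟩ := ih
    have key : ∀ s < 10, ∃ r < 77, (lW L gT (tWord r))⁻¹ * (ltr L gT s * y) ∈ P0 L := by
      intro s hs
      obtain ⟨r, hr, h⟩ := ltr_mul_coset L hS hgT hq hs
      refine ⟨r, hr, ?_⟩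
      have := (P0 L).mul_mem h hm
      simpa [mul_assoc] using this
    rcases hx with ⟨a, ha, rfl⟩ | hx
    · rcases List.mem_append.1 ha with ha | ha
      · obtain ⟨c, -, e⟩ := exists_ee L hS (Subgroup.subset_closure ⟨a, ha, rfl⟩ : L.el a ∈ L.E)
        refine ⟨q, hq, ?_⟩
        have hq' := lW_acts L hS hgT (trans_check q hq).1
        have h2 := E_le_P0 L (Acts.mem_E L hS (hq'.ee_mul L hS c) hq')
        rw [← e]
        have := (P0 L).mul_mem h2 hm
        simpa [mul_assoc] using this
      · obtain ⟨i, hi, rfl⟩ := List.getElem_of_mem ha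
        have h := key i (Nat.lt_succ_of_lt hi)
        rwa [ltr, if_pos (show i < 9 from hi), gen, List.getD_eq_getElem _ _ hi] at h
    · rw [Set.mem_singleton_iff] at hx
      have h := key 9 (by norm_num)
      rw [ltr, if_neg (by norm_num)] at h
      rwa [hx]

theorem index_P0 [Finite T] : ((P0 L).subgroupOf (N0 L gT)).index = 77 := by
  let f : Fin 77 → ↥(N0 L gT) ⧸ (P0 L).subgroupOf (N0 L gT) := fun q =>
    QuotientGroup.mk ⟨lW L gT (tWord q.val), lW_mem_N0 L gT _⟩
  have hz : ee L 1 = z := by
    rw [← el_ePair, L.el_congr hS (show eqP (ePair 1) (256, []) = true by decide +kernel)]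
    simp [Base.el, L.x_z]
  have hc : ∀ q < 77, lW L gT (tWord q) * z * (lW L gT (tWord q))⁻¹ = ee L (trans.getD q (0, [])).1 := by
    intro q hq
    obtain ⟨hw, e⟩ := trans_check q hq
    rw [← e, ← lW_acts L hS hgT hw 1, hz]
  have hlt : ∀ q < 77, (trans.getD q (0, [])).1 < 1024 := by decide +kernel
  have hf : Function.Bijective f := by
    constructor
    · intro q r h
      have h' := QuotientGroup.eq.1 h
      rw [Subgroup.mem_subgroupOf] at h'
      have hcz := (P0_comm_z L h').eq
      simp only [Subgroup.coe_mul, Subgroup.coe_inv] at hcz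
      have e : lW L gT (tWord r.val) * z * (lW L gT (tWord r.val))⁻¹ =
          lW L gT (tWord q.val) * z * (lW L gT (tWord q.val))⁻¹ := by
        calc lW L gT (tWord r.val) * z * (lW L gT (tWord r.val))⁻¹
            = lW L gT (tWord q.val) * ((lW L gT (tWord q.val))⁻¹ * lW L gT (tWord r.val) * z) *
                (lW L gT (tWord r.val))⁻¹ := by group
          _ = _ := by rw [hcz]; group
      rw [hc _ q.isLt, hc _ r.isLt] at e
      have e' := ee_inj L hS (hlt _ r.isLt) (hlt _ q.isLt) e
      have hq : q.val < trans.length := by rw [trans_nodup.2.1]; exact q.isLt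
      have hr : r.val < trans.length := by rw [trans_nodup.2.1]; exact r.isLt
      rw [List.getD_eq_getElem _ _ hq, List.getD_eq_getElem _ _ hr] at e'
      exact Fin.ext ((trans_nodup.1.getElem_inj_iff (hi := by simpa using hq) (hj := by simpa using hr)).1
        (by simpa using e'.symm))
    · rintro ⟨y, hy⟩
      obtain ⟨q, hq, hm⟩ := exists_coset L hS hgT hy
      exact ⟨⟨q, hq⟩, QuotientGroup.eq.2 (Subgroup.mem_subgroupOf.2 (by simpa using hm))⟩
  rw [Subgroup.index, ← Nat.card_congr (Equiv.ofBijective f hf), Nat.card_fin]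

end Cfsg.Agent.CoTwoCert.Rigid
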