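import Cfsg.Agent.Lib.CoTwoCert.Rigid.Group

/-
Checks of the orbit table (helper69).
-/

set_option autoImplicit false
set_option maxRecDepth 20000

namespace Cfsg.Agent.CoTwoCert.Rigid

/-- The word of an orbit point. -/
def tWord (q : ℕ) : List ℕ := (trans.getD q (0, [])).2

/-- The new point and the returning word. -/
def sch (q s : ℕ) : ℕ × List ℕ := (schreier.getD q []).getD s (0, [])

theorem trans_check : ∀ q < 77, (∀ s ∈ tWord q, s < 10) ∧
    lin (matW (tWord q)) 1 = (trans.getD q (0, [])).1 := by decide +kernel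

theorem trans_nodup : (trans.map Prod.fst).Nodup ∧ trans.length = 77 ∧ tWord 0 = [] := by decide +kernel

theorem sch_check : ∀ q < 77, ∀ s < 10, (sch q s).1 < 77 ∧ (∀ i ∈ (sch q s).2, i < 9) ∧
    (matW (s :: tWord q) == matW (tWord (sch q s).1 ++ (sch q s).2)) = true := by decide +kernel

end Cfsg.Agent.CoTwoCert.Rigid
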