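import Cfsg.Agent.Lib.CoTwoCert.Rigid.Fibre
import Cfsg.Agent.Lib.CoTwoCert.Rigid.Deriv

/-
Rigidity of the local subgroup (helper69).

* `exists_phi` : the local subgroup of the model maps into any group with the same centraliser
-/

set_option autoImplicit false
set_option maxRecDepth 20000

namespace Cfsg.Agent.CoTwoCert.Rigid

open CoTwoType

universe u v

variable {G : Type u} {T : Type v} [Group G] [Group T] {z : G} {z0 : T}

theorem devA_lt {D : ℕ} : ∀ {w : List ℕ}, (∀ i ∈ w, i < 9) → ∀ {a : ℕ}, a < 1024 → devA D w a < 1024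
  | [], _, _, h => h
  | i :: w, hw, a, _ => by
    refine devA_lt (fun b hb => hw b (List.mem_cons_of_mem _ hb)) (Nat.xor_lt_two_pow (n := 10) ?_ ?_)
    · exact lin_lt (n := 10) ((by decide : ∀ i < 9, ∀ a ∈ acts.getD i [], a < 1024) i (hw i List.mem_cons_self)) a
    · exact Nat.lt_succ_of_le Nat.and_le_right

section Word

variable (L : Base z) (hS : L.Split)
include hS

theorem ee_move {i : ℕ} (hi : i < 9) (a : ℕ) : ee L a * L.el (gen i) = L.el (gen i) * ee L (actA i a) := by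
  have h := gen_acts L hS hi a
  rw [inv_eq_of_mul_eq_one_right (gen_sq L hS hi)] at h
  rw [actA, ← h, ← mul_assoc, ← mul_assoc, gen_sq L hS hi, one_mul]

theorem devA_spec (D : ℕ) : ∀ {w : List ℕ}, (∀ i ∈ w, i < 9) → ∀ a,
    ee L a * (w.map fun i => L.el (gen i) * ee L (dD D i)).prod = pW L w * ee L (devA D w a)
  | [], _, a => by simp [pW, devA]
  | i :: w, hw, a => by
    have ih := devA_spec D (fun b hb => hw b (List.mem_cons_of_mem _ hb)) (actA i a ^^^ dD D i)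
    rw [List.map_cons, List.prod_cons, show pW L (i :: w) = L.el (gen i) * pW L w by simp [pW], devA,
      mul_assoc (L.el (gen i)) (pW L w), ← ih, ee_xor L hS, ← mul_assoc, ← mul_assoc (ee L a),
      ee_move L hS (hw i List.mem_cons_self), mul_assoc, mul_assoc, mul_assoc]

end Word

variable (L : Base z) (L0 : Base z0) {gT : T}

/-- The identity on codes. -/
def FixE (Φ : ↥(N0 L0 gT) →* G) : Prop := ∀ (c : ℕ) (y : ↥(N0 L0 gT)), (y : T) = ee L0 c → Φ y = ee L c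

/-- The values on the generators. -/
def HasD (Φ : ↥(N0 L0 gT) →* G) (D : ℕ) : Prop :=
  ∀ i < 9, ∀ y : ↥(N0 L0 gT), (y : T) = L0.el (gen i) → Φ y = L.el (gen i) * ee L (dD D i)

variable (hS : L.Split) (hS0 : L0.Split)
include hS hS0

theorem map_word {Φ : ↥(N0 L0 gT) →* G} {D : ℕ} (hD : HasD L L0 Φ D) {w : List ℕ} (hw : ∀ i ∈ w, i < 9)
    (y : ↥(N0 L0 gT)) (hy : (y : T) = pW L0 w) : Φ y = pW L w * ee L (devA D w 0) := by
  have key : ∀ {w : List ℕ}, (∀ i ∈ w, i < 9) → ∀ y : ↥(N0 L0 gT), (y : T) = pW L0 w →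
      Φ y = (w.map fun i => L.el (gen i) * ee L (dD D i)).prod := by
    intro w
    induction w with
    | nil => intro _ y hy; rw [show y = 1 from Subtype.ext hy, map_one]; rfl
    | cons i w ih =>
      intro hw y hy
      have hi := hw i List.mem_cons_self
      let a : ↥(N0 L0 gT) := ⟨L0.el (gen i), el_mem_N0 L0 (gen_mem i hi) gT⟩
      have e : y = a * (a⁻¹ * y) := by group
      rw [List.map_cons, List.prod_cons, e, map_mul, hD i hi a rfl,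
        ih (fun b hb => hw b (List.mem_cons_of_mem _ hb)) (a⁻¹ * y) ?_]
      rw [Subgroup.coe_mul, Subgroup.coe_inv, hy]
      simp [a, pW]
  rw [key hw y hy, ← devA_spec L hS D hw 0, ee_zero, one_mul]

theorem res_zero {Φ : ↥(N0 L0 gT) →* G} (hF : FixE L L0 Φ) {D : ℕ} (hD : HasD L L0 Φ D)
    {r : List ℕ × List ℕ × ℕ} (hr : r ∈ rels) : res D r = 0 := by
  obtain ⟨h1, h2, -⟩ := rels_check r hr
  let a : ↥(N0 L0 gT) := ⟨pW L0 r.1, P0_le_N0 L0 gT (pW_mem_P0 L0 h1)⟩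
  let b : ↥(N0 L0 gT) := ⟨pW L0 r.2.1, P0_le_N0 L0 gT (pW_mem_P0 L0 h2)⟩
  let c : ↥(N0 L0 gT) := ⟨ee L0 r.2.2, P0_le_N0 L0 gT (ee_mem_P0 L0 _)⟩
  have e : Φ a = Φ b * Φ c := by
    rw [← map_mul]; exact congrArg Φ (Subtype.ext (rels_spec L0 hS0 hr))
  rw [map_word L L0 hS hS0 hD h1 a rfl, map_word L L0 hS hS0 hD h2 b rfl, hF _ c rfl, rels_spec L hS hr,
    mul_assoc, mul_assoc, mul_right_inj, ← ee_comm L hS r.2.2, mul_right_inj] at e
  rw [res, ee_inj L hS (devA_lt h1 (by norm_num)) (devA_lt h2 (by norm_num)) e, Nat.xor_self]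

theorem hasD_exists [Finite G] [Finite T] {x : G} (hx : Acts L x gAct) (hgT : Acts L0 gT gAct)
    {Φ : ↥(N0 L0 gT) →* G} (hΦ : ∀ y : ↥(N0 L0 gT), (Φ y, (y : T)) ∈ fib L L0 x gT) :
    ∃ D < 2 ^ 90, HasD L L0 Φ D := by
  classical
  have h : ∀ i : Fin 9, ∃ d < 1024, Φ ⟨L0.el (gen i), el_mem_N0 L0 (gen_mem i i.isLt) gT⟩ = L.el (gen i) * ee L d := by
    intro i
    have hm : ((L.el (gen i), L0.el (gen i)) : G × T) ∈ fib L L0 x gT :=
      dia_le_fib L L0 (Subgroup.subset_closure ⟨_, gen_mem i i.isLt, rfl⟩)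
    have h := fib_ker L hS L0 hS0 hx hgT ((fib L L0 x gT).mul_mem ((fib L L0 x gT).inv_mem hm)
      (hΦ ⟨L0.el (gen i), el_mem_N0 L0 (gen_mem i i.isLt) gT⟩)) (by simp)
    obtain ⟨d, hd, e⟩ := exists_ee L hS h
    exact ⟨d, hd, by rw [e]; simp⟩
  choose d hd hΦd using h
  have hl : ∀ a ∈ List.ofFn d, a < 1024 := fun a ha => by
    obtain ⟨i, rfl⟩ := List.mem_ofFn.1 ha
    exact hd i
  refine ⟨packD (List.ofFn d), lt_of_lt_of_le (packD_lt hl) (by simp), fun i hi y hy => ?_⟩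
  rw [dD_packD hl, List.getD_eq_getElem _ _ (by simpa using hi), List.getElem_ofFn, ← hΦd ⟨i, hi⟩]
  exact congrArg Φ (Subtype.ext hy)

theorem conj_shift {Φ : ↥(N0 L0 gT) →* G} (hF : FixE L L0 Φ) {D : ℕ} (hD : HasD L L0 Φ D) {e : ℕ} (he : e < 1024) :
    FixE L L0 ((MulAut.conj (ee L e)).toMonoidHom.comp Φ) ∧
      HasD L L0 ((MulAut.conj (ee L e)).toMonoidHom.comp Φ) (D ^^^ lin innerD e) := by
  refine ⟨fun c y hy => ?_, fun i hi y hy => ?_⟩
  · simp [hF c y hy, ee_inv L hS, ee_comm L hS e c, mul_assoc, ee_sq L hS]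
  · simp only [MonoidHom.comp_apply, MulEquiv.toMonoidHom_eq_coe, MonoidHom.coe_coe, MulAut.conj_apply,
      hD i hi y hy, ee_inv L hS]
    rw [dD_xor, inner_eq he hi, ← mul_assoc, ee_move L hS hi, mul_assoc, mul_assoc, ← ee_xor L hS, ← ee_xor L hS,
      Nat.xor_left_comm]

omit hS in
theorem outer_mem (O : Outer L0 gT) (y : ↥(N0 L0 gT)) : O.θ y ∈ N0 L0 gT := by
  obtain ⟨y, hy⟩ := y
  induction hy using Subgroup.closure_induction with
  | mem c hc =>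
    rcases hc with ⟨a, ha, rfl⟩ | hc
    · rcases List.mem_append.1 ha with ha | ha
      · rw [O.eGen_eq _ (Subgroup.subset_closure ⟨a, ha, rfl⟩)]
        exact el_mem_N0 L0 (List.mem_append_left _ ha) gT
      · obtain ⟨i, hi, rfl⟩ := List.getElem_of_mem ha
        rw [O.gen_eq i _ hi (by rw [gen, List.getD_eq_getElem _ _ hi]), el_ePair]
        exact mul_mem (el_mem_N0 L0 (gen_mem i hi) gT) (P0_le_N0 L0 gT (ee_mem_P0 L0 _))
    · rw [O.g_eq _ (Set.mem_singleton_iff.1 hc), el_ePair]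
      exact mul_mem (gT_mem_N0 L0 gT) (P0_le_N0 L0 gT (ee_mem_P0 L0 _))
  | one => exact (map_one O.θ).symm ▸ one_mem _
  | mul a b ha hb iha ihb =>
    rw [show (⟨a * b, _⟩ : ↥(N0 L0 gT)) = ⟨a, ha⟩ * ⟨b, hb⟩ from rfl, map_mul]
    exact mul_mem iha ihb
  | inv a ha iha =>
    rw [show (⟨a⁻¹, _⟩ : ↥(N0 L0 gT)) = ⟨a, ha⟩⁻¹ from rfl, map_inv]
    exact inv_mem iha

theorem comp_shift (O : Outer L0 gT) {Φ : ↥(N0 L0 gT) →* G} (hF : FixE L L0 Φ) {D : ℕ} (hD : HasD L L0 Φ D) :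
    FixE L L0 (Φ.comp (O.θ.codRestrict _ (outer_mem L0 hS0 O))) ∧
      HasD L L0 (Φ.comp (O.θ.codRestrict _ (outer_mem L0 hS0 O))) (D ^^^ nD) := by
  refine ⟨fun c y hy => ?_, fun i hi y hy => ?_⟩
  · refine hF c _ ?_
    show O.θ y = _
    rw [O.eGen_eq y (hy ▸ ee_mem L0 c), hy]
  · let a : ↥(N0 L0 gT) := ⟨L0.el (gen i), el_mem_N0 L0 (gen_mem i hi) gT⟩
    let b : ↥(N0 L0 gT) := ⟨ee L0 (nVal i), P0_le_N0 L0 gT (ee_mem_P0 L0 _)⟩
    have e : O.θ.codRestrict _ (outer_mem L0 hS0 O) y = a * b :=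
      Subtype.ext (show O.θ y = L0.el (gen i) * ee L0 (nVal i) by rw [O.gen_eq i y hi hy, el_ePair])
    rw [MonoidHom.comp_apply, e, map_mul, hD i hi a rfl, hF _ b rfl, mul_assoc, ← ee_xor L hS, dD_xor]
    rfl

theorem phi_inj [Finite G] [Finite T] {x : G} (hx : Acts L x gAct) (hgT : Acts L0 gT gAct)
    {Φ : ↥(N0 L0 gT) →* G} (hΦ : ∀ y : ↥(N0 L0 gT), (Φ y, (y : T)) ∈ fib L L0 x gT) (hF : FixE L L0 Φ) :
    Function.Injective Φ := (injective_iff_map_eq_one Φ).2 fun y hy => by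
  obtain ⟨M, h1, h2⟩ := fib_acts L hS L0 hS0 hx hgT (hΦ y)
  have hm : (y : T) ∈ L0.E := mem_E_of_comm L0 hS0 fun c => by
    have e := h1 c
    rw [show Φ y = 1 from hy, one_mul, inv_one, mul_one] at e
    have e' := h2 c
    rw [← ee_transfer L0 hS0 L hS e, mul_inv_eq_iff_eq_mul] at e'
    exact e'
  obtain ⟨c, -, e⟩ := exists_ee L0 hS0 hm
  rw [hF c y e.symm, ← ee_zero L] at hy
  exact Subtype.ext (e.symm.trans ((ee_transfer L0 hS0 L hS hy).trans (ee_zero L0)))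

theorem outer_inj [Finite G] [Finite T] {x : G} (hx : Acts L x gAct) (hgT : Acts L0 gT gAct)
    {Φ : ↥(N0 L0 gT) →* G} (hΦ : ∀ y : ↥(N0 L0 gT), (Φ y, (y : T)) ∈ fib L L0 x gT) (O : Outer L0 gT) :
    Function.Injective (O.θ.codRestrict _ (outer_mem L0 hS0 O)) := (injective_iff_map_eq_one _).2 fun y hy => by
  have hy' : O.θ y = 1 := congrArg Subtype.val hy
  obtain ⟨M, -, h2⟩ := fib_acts L hS L0 hS0 hx hgT (hΦ y)
  let b : ℕ → ↥(N0 L0 gT) := fun c => ⟨ee L0 c, P0_le_N0 L0 gT (ee_mem_P0 L0 _)⟩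
  have hm : (y : T) ∈ L0.E := mem_E_of_comm L0 hS0 fun c => by
    have e := congrArg O.θ (show y * b c * y⁻¹ = b (lin M c) from Subtype.ext (h2 c))
    rw [map_mul, map_mul, map_inv, hy', O.eGen_eq _ (ee_mem L0 _), O.eGen_eq _ (ee_mem L0 _), one_mul, inv_one,
      mul_one] at e
    exact (mul_inv_eq_iff_eq_mul.1 ((h2 c).trans e.symm))
  exact Subtype.ext ((O.eGen_eq y hm).symm.trans hy')

theorem not_dOne {Φ : ↥(N0 L0 gT) →* G} (hF : FixE L L0 Φ) (hxg : gT * L0.el xPair * gT⁻¹ = L0.el xPair')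
    (hu : IsConj z (L.el uPair)) (hv : ¬ IsConj z (L.el vPair)) : ¬ HasD L L0 Φ dOne := by
  intro hD
  have hw : (∀ i ∈ xWord, i < 9) ∧ ∀ i ∈ xWord', i < 9 := by decide
  obtain ⟨hc1, hc2, hc3, hc4⟩ : eqP xPair (mulP (pairW xWord) (ePair xDiff)) = true ∧
      eqP xPair' (mulP (pairW xWord') (ePair xDiff)) = true ∧
      eqP (mulP (pairW xWord) (ePair (devA dOne xWord 0 ^^^ xDiff))) uPair = true ∧
      eqP (mulP (pairW xWord') (ePair (devA dOne xWord' 0 ^^^ xDiff))) vPair = true := by decide +kernel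
  have val : ∀ (p q : ℕ × List (Fin 7)) (w : List ℕ), (∀ i ∈ w, i < 9) →
      eqP p (mulP (pairW w) (ePair xDiff)) = true → eqP (mulP (pairW w) (ePair (devA dOne w 0 ^^^ xDiff))) q = true →
      ∃ y : ↥(N0 L0 gT), (y : T) = L0.el p ∧ Φ y = L.el q := by
    intro p q w hw h1 h2
    let a : ↥(N0 L0 gT) := ⟨pW L0 w, P0_le_N0 L0 gT (pW_mem_P0 L0 hw)⟩
    let b : ↥(N0 L0 gT) := ⟨ee L0 xDiff, P0_le_N0 L0 gT (ee_mem_P0 L0 _)⟩
    refine ⟨a * b, ?_, ?_⟩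
    · rw [L0.el_congr hS0 h1, ← L0.el_mul (pairW_lt w) (ePair_lt _), el_pairW, el_ePair]; rfl
    · rw [map_mul, map_word L L0 hS hS0 hD hw a rfl, hF _ b rfl, ← L.el_congr hS h2,
        ← L.el_mul (pairW_lt w) (ePair_lt _), el_pairW, el_ePair, ee_xor L hS, mul_assoc]
  obtain ⟨a, ha, hΦa⟩ := val _ _ _ hw.1 hc1 hc3
  obtain ⟨b, hb, hΦb⟩ := val _ _ _ hw.2 hc2 hc4
  let g : ↥(N0 L0 gT) := ⟨gT, gT_mem_N0 L0 gT⟩
  have e : g * a * g⁻¹ = b := Subtype.ext (by simp only [Subgroup.coe_mul, Subgroup.coe_inv, ha, hb]; exact hxg)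
  refine hv (hu.trans (isConj_iff.2 ⟨Φ g, ?_⟩))
  rw [← hΦa, ← hΦb, ← e, map_mul, map_mul, map_inv]

theorem exists_phi [Finite G] [Finite T] (hgT : ∀ i < 10, gT * L0.el (eGen.getD i (0, [])) * gT⁻¹ = L0.el (gImg i))
    (hxg : gT * L0.el xPair * gT⁻¹ = L0.el xPair')
    (O : Outer L0 gT)
    (hg : ∃ x : G, ∀ i < 10, x * L.el (eGen.getD i (0, [])) * x⁻¹ = L.el (gImg i))
    (hu : IsConj z (L.el uPair)) (hv : ¬ IsConj z (L.el vPair)) :
    ∃ Φ : ↥(N0 L0 gT) →* G, Function.Injective Φ ∧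
      (∀ a (ha : a ∈ eGen ++ gens), Φ ⟨L0.el a, el_mem_N0 L0 ha gT⟩ = L.el a) ∧
      ∀ i < 10, Φ ⟨gT, gT_mem_N0 L0 gT⟩ * L.el (eGen.getD i (0, [])) * (Φ ⟨gT, gT_mem_N0 L0 gT⟩)⁻¹ =
        L.el (gImg i) := by
  obtain ⟨x, hx⟩ := hg
  have hx' := gAct_acts L hS hx
  have hgT' := gAct_acts L0 hS0 hgT
  obtain ⟨Φ, hΦ, hF⟩ := exists_section L hS L0 hS0 hx' hgT'
  have hF : FixE L L0 Φ := hF
  obtain ⟨D, hD90, hD⟩ := hasD_exists L L0 hS hS0 hx' hgT' hΦ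
  obtain ⟨e, he, a, b, rfl⟩ := coord_eq hD90 fun r hr => res_zero L L0 hS hS0 hF hD hr
  obtain ⟨hF1, hD1⟩ := conj_shift L L0 hS hS0 hF hD he
  set Φ1 := (MulAut.conj (ee L e)).toMonoidHom.comp Φ
  have hi1 : Function.Injective Φ1 := fun a b h =>
    phi_inj L L0 hS hS0 hx' hgT' hΦ hF ((MulAut.conj (ee L e)).injective h)
  have hD1' : HasD L L0 Φ1 ((bif a then nD else 0) ^^^ (bif b then dOne else 0)) := by
    convert hD1 using 1
    generalize lin innerD e = k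
    generalize (bif a then nD else 0) = m
    generalize (bif b then dOne else 0) = n
    apply Nat.eq_of_testBit_eq
    intro j
    simp only [Nat.testBit_xor]
    cases k.testBit j <;> cases m.testBit j <;> cases n.testBit j <;> rfl
  obtain ⟨Φ2, hF2, hD2, hi2⟩ : ∃ Φ2 : ↥(N0 L0 gT) →* G, FixE L L0 Φ2 ∧ HasD L L0 Φ2 (bif b then dOne else 0) ∧
      Function.Injective Φ2 := by
    cases a
    · exact ⟨Φ1, hF1, by simpa using hD1', hi1⟩
    · obtain ⟨h1, h2⟩ := comp_shift L L0 hS hS0 O hF1 hD1'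
      refine ⟨_, h1, ?_, hi1.comp (outer_inj L L0 hS hS0 hx' hgT' hΦ O)⟩
      convert h2 using 1
      simp [Nat.xor_comm nD, Nat.xor_assoc]
  cases b
  · refine ⟨Φ2, hi2, fun p hp => ?_, fun i hi => ?_⟩
    · rcases List.mem_append.1 hp with hp | hp
      · obtain ⟨c, -, e⟩ := exists_bit L hS p hp
        rw [hF2 c _ (show L0.el p = ee L0 c by rw [L0.el_congr hS0 e, el_ePair]), L.el_congr hS e, el_ePair]
      · obtain ⟨k, hk, rfl⟩ := List.getElem_of_mem hp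
        rw [hD2 k hk _ (by rw [gen, List.getD_eq_getElem _ _ hk]), gen, List.getD_eq_getElem _ _ hk]
        simp [dD_zero, ee_zero]
    · let g : ↥(N0 L0 gT) := ⟨gT, gT_mem_N0 L0 gT⟩
      have hc := eGen_bit i hi
      let b1 : ↥(N0 L0 gT) := ⟨ee L0 (1 <<< i), P0_le_N0 L0 gT (ee_mem_P0 L0 _)⟩
      let b2 : ↥(N0 L0 gT) := ⟨ee L0 (gAct.getD i 0), P0_le_N0 L0 gT (ee_mem_P0 L0 _)⟩
      have e : g * b1 * g⁻¹ = b2 := Subtype.ext (by
        simp only [Subgroup.coe_mul, Subgroup.coe_inv, g, b1, b2]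
        rw [← el_ePair L0 (1 <<< i), ← L0.el_congr hS0 hc, hgT i hi, gImg, el_ePair])
      have h := congrArg Φ2 e
      rw [map_mul, map_mul, map_inv, hF2 _ b1 rfl, hF2 _ b2 rfl, ← el_ePair L (1 <<< i), ← L.el_congr hS hc,
        ← el_ePair L (gAct.getD i 0)] at h
      exact h
  · exact absurd hD2 (not_dOne L L0 hS hS0 hF2 hxg hu hv)

end Cfsg.Agent.CoTwoCert.Rigid
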