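import Cfsg.Agent.Lib.CoTwoCert.Rigid.Main
import Cfsg.Agent.Lib.CoTwoCert.TRigid

/-
The rigidity for the second Conway group as the model (helper69).

* `exists_phi_co2` : the local subgroup of Co2 maps into a group with the same local data
-/

set_option autoImplicit false

namespace Cfsg.Agent.CoTwoCert.Rigid

open CoTwoType Leech

universe u

/-- The local subgroup of Co2 inside a group with the same local data. -/
theorem exists_phi_co2 {G : Type u} [Group G] [Finite G] {z : G} (L : Base z) (hS : L.Split)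
    (hg : ∃ x : G, ∀ i < 10, x * L.el (eGen.getD i (0, [])) * x⁻¹ = L.el (Rigid.gImg i))
    (hu : IsConj z (L.el Rigid.uPair)) (hv : ¬ IsConj z (L.el Rigid.vPair)) :
    ∃ Φ : ↥(Rigid.N0 base0 g2) →* G, Function.Injective Φ ∧
      (∀ a (ha : a ∈ eGen ++ gens), Φ ⟨base0.el a, el_mem_N0 base0 ha g2⟩ = L.el a) ∧
      ∀ i < 10, Φ ⟨g2, gT_mem_N0 base0 g2⟩ * L.el (eGen.getD i (0, [])) *
        (Φ ⟨g2, gT_mem_N0 base0 g2⟩)⁻¹ = L.el (Rigid.gImg i) :=
  haveI := finite_co2
  exists_phi L base0 hS split0 g2_rigid g2_xPair tOuter hg hu hv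

end Cfsg.Agent.CoTwoCert.Rigid
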